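import Cfsg.Agent.H644.Trace
import Cfsg.Agent.H644.Uniq
set_option linter.all false

-- part: H644/TraceTwo
section
/-!
# Transitivity of the relative trace, traces of invariant elements, class sums of a subgroup

* `tr_trans`: `Tr_T^H (Tr_D^T a) = Tr_D^H a`;
* `tr_of_isInv`: `Tr_D^T a = |T : D| a` for a `T`-invariant element;
* `clT T y`: the sum of the `T`-conjugates of `y`; `clT_eq_tr`;
* `exists_clT`: if `L` is a linear form, `x` is `T`-invariant and `L x ≠ 0` then `x(y) ≠ 0` and
  `L (clT T y) ≠ 0` for some `y`;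
* `exists_tr_single`: for `y` and a Sylow `p`-subgroup `R` of `C_T(y)`, `clT T y` is a nonzero
  multiple of `Tr_R^T y`.
-/

set_option autoImplicit false
set_option linter.unusedSectionVars false

open Cfsg

namespace Cfsg.Agent.H644

variable {K : Type*} [Field K] {G : Type*} [Group G] [Finite G]

theorem tr_trans {D T H : Subgroup G} (hDT : D ≤ T) (hTH : T ≤ H) {a : MonoidAlgebra K G}
    (ha : IsInv D a) : tr T H (tr D T a) = tr D H a := by
  classical
  have := Fintype.ofFinite (G ⧸ D)
  have := Fintype.ofFinite (G ⧸ T)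
  have hπ : ∀ g g' : G, (QuotientGroup.leftRel D) g g' → (QuotientGroup.leftRel T) g g' := by
    intro g g' h
    rw [QuotientGroup.leftRel_apply] at h ⊢
    exact hDT h
  let π : G ⧸ D → G ⧸ T := Quotient.map' id hπ
  have hπmk : ∀ g : G, π (g : G ⧸ D) = (g : G ⧸ T) := fun g => rfl
  have hπout : ∀ s : G ⧸ D, ((qout s : G) : G ⧸ T) = π s := fun s => by
    rw [← hπmk, mk_qout]
  rw [tr_def D H, ← Finset.sum_fiberwise (s := (Finset.univ : Finset (G ⧸ D))) (g := π),
    tr_def T H]
  refine Finset.sum_congr rfl fun q _ => ?_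
  have h1 : ∀ s ∈ Finset.univ.filter (fun s : G ⧸ D => π s = q),
      (if inCos D H s then cj (qout s) a else 0) =
        if inCos T H q then cj (qout s) a else 0 := by
    intro s hs
    have hs' := (Finset.mem_filter.1 hs).2
    have h2 : inCos D H s ↔ inCos T H q := by
      rw [inCos_iff (hDT.trans hTH) (mk_qout s), inCos_iff hTH ((hπout s).trans hs')]
    by_cases h3 : inCos T H q
    · rw [if_pos h3, if_pos (h2.2 h3)]
    · rw [if_neg h3, if_neg (fun h => h3 (h2.1 h))]
  rw [Finset.sum_congr rfl h1]
  by_cases h3 : inCos T H q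
  · simp only [if_pos h3]
    rw [tr_def D T, cj_sum, Finset.sum_filter, ← Equiv.sum_comp (MulAction.toPerm (qout q))
      (fun s : G ⧸ D => if π s = q then cj (qout s) a else 0)]
    refine Finset.sum_congr rfl fun r _ => ?_
    have h4 : ((qout q * qout r : G) : G ⧸ D) = (qout q) • r := by
      rw [← smul_mk, mk_qout]
    have h5 : π (MulAction.toPerm (qout q) r) = q ↔ inCos D T r := by
      rw [MulAction.toPerm_apply, ← h4, hπmk]
      conv_lhs => rhs; rw [← mk_qout q]
      rw [eq_comm, QuotientGroup.eq, inv_mul_cancel_left]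
      rfl
    by_cases h6 : inCos D T r
    · rw [if_pos h6, if_pos (h5.2 h6), MulAction.toPerm_apply, cj_qout ha h4, cj_mul_apply]
    · rw [if_neg h6, if_neg (fun h => h6 (h5.1 h)), map_zero]
  · simp only [if_neg h3]
    rw [Finset.sum_const_zero]

/-- The number of cosets of `D` in `T`. -/
theorem card_inCos {D T : Subgroup G} (hDT : D ≤ T) [Fintype (G ⧸ D)]
    [DecidablePred (inCos D T)] :
    (Finset.univ.filter (fun q : G ⧸ D => inCos D T q)).card = D.relIndex T := by
  classical
  rw [Subgroup.relIndex, Subgroup.index, ← Fintype.card_subtype, ← Nat.card_eq_fintype_card]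
  have hmem : ∀ t : T, inCos D T (((t : G)) : G ⧸ D) := fun t =>
    (inCos_iff hDT rfl).2 t.2
  refine Nat.card_congr (Equiv.ofBijective
    (fun q : {q : G ⧸ D // inCos D T q} => ((⟨qout q.1, q.2⟩ : T) : T ⧸ D.subgroupOf T)) ⟨?_, ?_⟩)
  · rintro ⟨q, hq⟩ ⟨q', hq'⟩ h
    have h1 := QuotientGroup.eq.1 h
    rw [Subgroup.mem_subgroupOf] at h1
    apply Subtype.ext
    have h2 : ((qout q : G) : G ⧸ D) = ((qout q' : G) : G ⧸ D) := QuotientGroup.eq.2 h1
    rw [mk_qout, mk_qout] at h2
    exact h2
  · intro s
    obtain ⟨t, rfl⟩ := QuotientGroup.mk_surjective s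
    refine ⟨⟨((t : G) : G ⧸ D), hmem t⟩, ?_⟩
    refine QuotientGroup.eq.2 ?_
    rw [Subgroup.mem_subgroupOf]
    exact inv_qout_mul_mem rfl

/-- The relative trace of an invariant element. -/
theorem tr_of_isInv {D T : Subgroup G} (hDT : D ≤ T) {a : MonoidAlgebra K G} (ha : IsInv T a) :
    tr D T a = (D.relIndex T : K) • a := by
  classical
  have := Fintype.ofFinite (G ⧸ D)
  rw [tr_def, ← card_inCos hDT, ← Finset.sum_filter]
  have h1 : ∀ q ∈ Finset.univ.filter (fun q : G ⧸ D => inCos D T q), cj (qout q) a = a :=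
    fun q hq => isInv_iff_cj.1 ha _ (Finset.mem_filter.1 hq).2
  rw [Finset.sum_congr rfl h1, Finset.sum_const]
  exact (Nat.cast_smul_eq_nsmul K _ a).symm

open Classical in
/-- The sum of the `T`-conjugates of `y`. -/
noncomputable def clT (T : Subgroup G) (y : G) : MonoidAlgebra K G :=
  mkA fun z => if ∃ t ∈ T, z = t * y * t⁻¹ then 1 else 0

open Classical in
theorem coeff_clT (T : Subgroup G) (y z : G) : (clT T y : MonoidAlgebra K G).coeff z =
    if ∃ t ∈ T, z = t * y * t⁻¹ then 1 else 0 := rfl

theorem isInv_clT (T : Subgroup G) (y : G) : IsInv T (clT T y : MonoidAlgebra K G) := by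
  classical
  intro u hu g
  rw [coeff_clT, coeff_clT]
  congr 1
  apply propext
  constructor
  · rintro ⟨t, ht, h⟩
    refine ⟨u⁻¹ * t, T.mul_mem (T.inv_mem hu) ht, ?_⟩
    calc g = u⁻¹ * (u * g * u⁻¹) * u := by group
      _ = u⁻¹ * (t * y * t⁻¹) * u := by rw [h]
      _ = _ := by group
  · rintro ⟨t, ht, rfl⟩
    exact ⟨u * t, T.mul_mem hu ht, by group⟩

/-- The singleton `y` is invariant under the centralizer of `y`. -/
theorem isInv_single {D : Subgroup G} {y : G} (h : D ≤ Subgroup.centralizer ({y} : Set G)) :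
    IsInv D (MonoidAlgebra.single y (1 : K)) := by
  classical
  intro u hu g
  rw [MonoidAlgebra.coeff_single, Finsupp.single_apply, Finsupp.single_apply]
  congr 1
  apply propext
  have h1 := Subgroup.mem_centralizer_singleton_iff.1 (h hu)
  constructor
  · intro h2
    have h3 : g = u⁻¹ * y * u := by rw [h2]; group
    rw [h3, mul_assoc, ← h1, inv_mul_cancel_left]
  · intro h2
    rw [← h2, h1, mul_inv_cancel_right]

/-- The class sum of `y` under `T` is the relative trace from `C_T(y)` of `y`. -/
theorem clT_eq_tr (T : Subgroup G) (y : G) :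
    (clT T y : MonoidAlgebra K G) =
      tr (T ⊓ Subgroup.centralizer ({y} : Set G)) T (MonoidAlgebra.single y (1 : K)) := by
  classical
  set C := T ⊓ Subgroup.centralizer ({y} : Set G) with hC
  have hCT : C ≤ T := inf_le_left
  have := Fintype.ofFinite (G ⧸ C)
  refine ext_coeff fun z => ?_
  rw [coeff_clT, coeff_tr]
  by_cases hz : ∃ t ∈ T, z = t * y * t⁻¹
  · rw [if_pos hz]
    obtain ⟨t, ht, rfl⟩ := hz
    rw [Finset.sum_eq_single ((t : G) : G ⧸ C)]
    · have h1 : inCos C T ((t : G) : G ⧸ C) := (inCos_iff hCT rfl).2 ht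
      rw [if_pos h1, cj_qout (isInv_single (inf_le_right)) rfl, coeff_cj,
        MonoidAlgebra.coeff_single, Finsupp.single_apply, if_pos (by group)]
    · intro q _ hq
      by_cases h1 : inCos C T q
      · rw [if_pos h1, coeff_cj_qout, MonoidAlgebra.coeff_single, Finsupp.single_apply, if_neg]
        intro h2
        apply hq
        rw [← mk_qout q]
        refine QuotientGroup.eq.2 ?_
        refine Subgroup.mem_inf.2 ⟨T.mul_mem (T.inv_mem h1) ht, ?_⟩
        rw [Subgroup.mem_centralizer_singleton_iff]
        have h3 : qout q * y = t * y * t⁻¹ * qout q := by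
          calc qout q * y = qout q * ((qout q)⁻¹ * (t * y * t⁻¹) * qout q) := by rw [← h2]
            _ = _ := by group
        calc (qout q)⁻¹ * t * y = (qout q)⁻¹ * (t * y * t⁻¹ * qout q) * ((qout q)⁻¹ * t) := by
              group
          _ = (qout q)⁻¹ * (qout q * y) * ((qout q)⁻¹ * t) := by rw [h3]
          _ = y * ((qout q)⁻¹ * t) := by group
      · rw [if_neg h1]
    · exact fun h => absurd (Finset.mem_univ _) h
  · rw [if_neg hz]
    symm
    refine Finset.sum_eq_zero fun q _ => ?_
    by_cases h1 : inCos C T q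
    · rw [if_pos h1, coeff_cj_qout, MonoidAlgebra.coeff_single, Finsupp.single_apply, if_neg]
      intro h2
      apply hz
      refine ⟨qout q, h1, ?_⟩
      rw [h2]
      group
    · rw [if_neg h1]

/-- If `L` is a linear form and `x` is `T`-invariant with `L x ≠ 0`, then `x(y) ≠ 0` and
`L (clT T y) ≠ 0` for some `y`. -/
theorem exists_clT {T : Subgroup G} (L : MonoidAlgebra K G →ₗ[K] K) {x : MonoidAlgebra K G}
    (hx : IsInv T x) (hL : L x ≠ 0) : ∃ y : G, x.coeff y ≠ 0 ∧ L (clT T y) ≠ 0 := by
  classical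
  have := Fintype.ofFinite G
  let s : Setoid G :=
    { r := fun z z' => ∃ t ∈ T, z' = t * z * t⁻¹
      iseqv :=
        { refl := fun z => ⟨1, T.one_mem, by group⟩
          symm := fun {z z'} h => by
            obtain ⟨t, ht, rfl⟩ := h
            exact ⟨t⁻¹, T.inv_mem ht, by group⟩
          trans := fun {z z' z''} h h' => by
            obtain ⟨t, ht, rfl⟩ := h
            obtain ⟨t', ht', rfl⟩ := h'
            exact ⟨t' * t, T.mul_mem ht' ht, by group⟩ } }
  have : Finite (Quotient s) := inferInstance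
  have := Fintype.ofFinite (Quotient s)
  have hout : ∀ z : G, ∃ t ∈ T, z = t * (Quotient.out (Quotient.mk s z)) * t⁻¹ := by
    intro z
    have h : s.r (Quotient.out (Quotient.mk s z)) z := Quotient.exact (Quotient.out_eq _)
    exact h
  have hdec : x = ∑ c : Quotient s, x.coeff (Quotient.out c) • clT T (Quotient.out c) := by
    refine ext_coeff fun z => ?_
    rw [MonoidAlgebra.coeff_sum, Finsupp.finsetSum_apply,
      Finset.sum_eq_single (Quotient.mk s z)]
    · rw [MonoidAlgebra.coeff_smul, Finsupp.smul_apply, coeff_clT, if_pos (hout z), smul_eq_mul,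
        mul_one]
      obtain ⟨t, ht, h⟩ := hout z
      conv_lhs => rw [h]
      exact hx t ht _
    · intro c _ hc
      rw [MonoidAlgebra.coeff_smul, Finsupp.smul_apply, coeff_clT, if_neg, smul_zero]
      rintro ⟨t, ht, h⟩
      apply hc
      have h1 : Quotient.mk s (Quotient.out c) = Quotient.mk s z := Quotient.sound ⟨t, ht, h⟩
      rw [← h1]
      exact (Quotient.out_eq c).symm
    · exact fun h => absurd (Finset.mem_univ _) h
  rw [hdec, map_sum] at hL
  obtain ⟨c, -, hc⟩ := Finset.exists_ne_zero_of_sum_ne_zero hL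
  rw [map_smul, smul_eq_mul] at hc
  exact ⟨_, left_ne_zero_of_mul hc, right_ne_zero_of_mul hc⟩

/-- For every `y` centralized by the `p`-subgroup `P` of `T` there is a `p`-subgroup `R` with
`P ≤ R ≤ C_T(y)` such that `clT T y` is a multiple of `Tr_R^T y`. -/
theorem exists_tr_single {p : ℕ} [CharP K p] [Fact p.Prime] {T P : Subgroup G} (hPT : P ≤ T)
    (hP : IsPGroup p P) {y : G}
    (hy : y ∈ Subgroup.centralizer (P : Set G)) :
    ∃ (R : Subgroup G) (c : K), IsPGroup p R ∧ P ≤ R ∧ R ≤ T ∧
      R ≤ Subgroup.centralizer ({y} : Set G) ∧ c ≠ 0 ∧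
      clT T y = c • tr R T (MonoidAlgebra.single y (1 : K)) := by
  classical
  set C := T ⊓ Subgroup.centralizer ({y} : Set G) with hC
  have hCT : C ≤ T := inf_le_left
  have hPy : P ≤ Subgroup.centralizer ({y} : Set G) := fun u hu => by
    rw [Subgroup.mem_centralizer_singleton_iff]
    exact (Subgroup.mem_centralizer_iff.1 hy) u hu
  have hPC : P ≤ C := le_inf hPT hPy
  have h1 : IsPGroup p (P.subgroupOf C) := hP.comap_subtype
  obtain ⟨S, hS⟩ := h1.exists_le_sylow
  set R : Subgroup G := (S : Subgroup C).map C.subtype with hR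
  have hRC : R ≤ C := Subgroup.map_subtype_le _
  have hRp : IsPGroup p R := S.2.map _
  have hPR : P ≤ R := by
    have := Subgroup.map_mono (f := C.subtype) hS
    rwa [Subgroup.subgroupOf_map_subtype, inf_eq_left.2 hPC] at this
  have hidx : ¬ p ∣ R.relIndex C := by
    have h2 : R.subgroupOf C = (S : Subgroup C) := by
      rw [hR, Subgroup.subgroupOf, Subgroup.comap_map_eq_self_of_injective
        (Subgroup.subtype_injective _)]
    rw [Subgroup.relIndex, h2]
    exact S.not_dvd_index
  have hm : (R.relIndex C : K) ≠ 0 := by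
    rw [Ne, CharP.cast_eq_zero_iff K p]
    exact hidx
  have hsC : IsInv C (MonoidAlgebra.single y (1 : K)) := isInv_single inf_le_right
  have hsR : IsInv R (MonoidAlgebra.single y (1 : K)) := isInv_mono hRC hsC
  refine ⟨R, (R.relIndex C : K)⁻¹, hRp, hPR, hRC.trans hCT, hRC.trans inf_le_right,
    inv_ne_zero hm, ?_⟩
  rw [clT_eq_tr, ← tr_trans hRC hCT hsR, tr_of_isInv hRC hsC, tr_smul, smul_smul,
    inv_mul_cancel₀ hm, one_smul]

end Cfsg.Agent.H644
end

-- part: H644/Maximal
section
/-!
# Maximal Brauer pairs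

* `pairStab M P e`: the stabilizer in `N_G(P)` of the block `e` of `C_G(P)`;
* `exists_normal_extension`: for a Brauer pair `(P, e)` with stabilizer `T` there are a `p`-subgroup
  `P ≤ R ≤ T`, a block `g` of `C_G(R)` with `(P, e) ⊴ (R, g)` and an element `y` of `C_G(R)` such that
  the central character of `e` is nonzero at `Tr_R^T y` (so `R` is a defect group of `e` as a block of
  `T`);
* `isDefectGroup_of_forall` : if `(P, e)` is a pair of `B` without proper normal extensions, then
  `P` is a defect group of `B`;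
* `isDefectGroup_of_isMaximalBrauerPair` (S4659);
* `exists_maximal_above`: every pair of `B` lies below a maximal one.
-/

set_option autoImplicit false
set_option linter.unusedSectionVars false

open Cfsg

namespace Cfsg.Agent.H644

open Cfsg.Agent.Blocks.Local
open Cfsg.Agent.Blocks.Basic (isPBlock_nonempty isPBlock_eq_of_mem)

variable {p : ℕ} {M : Ideal AlgInt} [M.IsPrime] {G : Type*} [Group G] [Finite G]

/-- The stabilizer in `N_G(P)` of the block `e` of `C_G(P)`. -/
noncomputable def pairStab (M : Ideal AlgInt) [M.IsPrime] (P : Subgroup G)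
    (e : Set (IrrCharacter (Subgroup.centralizer (P : Set G)))) : Subgroup G where
  carrier := {x | x ∈ Subgroup.normalizer (P : Set G) ∧ cj x (emb _ (idem M e)) = emb _ (idem M e)}
  mul_mem' := fun {x y} hx hy => ⟨Subgroup.mul_mem _ hx.1 hy.1, by
    rw [cj_mul_apply, hy.2, hx.2]⟩
  one_mem' := ⟨Subgroup.one_mem _, cj_one_apply _⟩
  inv_mem' := fun {x} hx => ⟨Subgroup.inv_mem _ hx.1, by
    conv_lhs => rw [← hx.2]
    rw [cj_inv_cj]⟩

theorem mem_pairStab_iff {P : Subgroup G}
    {e : Set (IrrCharacter (Subgroup.centralizer (P : Set G)))} {x : G} :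
    x ∈ pairStab M P e ↔ x ∈ Subgroup.normalizer (P : Set G) ∧
      cj x (emb _ (idem M e)) = emb _ (idem M e) := Iff.rfl

/-- Membership in the stabilizer in terms of `StabilizesBlock`. -/
theorem mem_pairStab_iff_stabilizesBlock (hM : IsPModular p M) {P : Subgroup G}
    {e : Set (IrrCharacter (Subgroup.centralizer (P : Set G)))} (he : IsPBlock M e) {x : G} :
    x ∈ pairStab M P e ↔ x ∈ Subgroup.normalizer (P : Set G) ∧
      StabilizesBlock (Subgroup.centralizer (P : Set G)) e x := by
  rw [mem_pairStab_iff]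
  refine and_congr_right fun hx => ?_
  rw [stabilizesBlock_iff hM he]
  exact ⟨fun h => ⟨mem_normalizer_centralizer hx, h⟩, fun h => h.2⟩

theorem pairStab_le_normalizer (P : Subgroup G)
    (e : Set (IrrCharacter (Subgroup.centralizer (P : Set G)))) :
    pairStab M P e ≤ Subgroup.normalizer (P : Set G) := fun _ hx => hx.1

theorem isInv_pairStab (P : Subgroup G)
    (e : Set (IrrCharacter (Subgroup.centralizer (P : Set G)))) :
    IsInv (pairStab M P e) (emb _ (idem M e)) := isInv_iff_cj.2 fun _ hx => hx.2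

theorem centralizer_le_normalizer (P : Subgroup G) :
    Subgroup.centralizer (P : Set G) ≤ Subgroup.normalizer (P : Set G) := by
  intro x hx
  rw [Subgroup.mem_normalizer_iff]
  intro g
  constructor
  · intro hg
    rw [← (Subgroup.mem_centralizer_iff.1 hx) g hg, mul_inv_cancel_right]
    exact hg
  · intro hg
    have h1 := (Subgroup.mem_centralizer_iff.1 hx) _ hg
    have h2 : x * g * x⁻¹ = g := by
      have h3 : x * g * x⁻¹ * x = x * (x * g * x⁻¹) := h1
      have h4 : x * g = x * (x * g * x⁻¹) := by rw [← h3]; group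
      exact (mul_left_cancel h4).symm
    rw [h2] at hg
    exact hg

theorem centralizer_le_pairStab (P : Subgroup G)
    (e : Set (IrrCharacter (Subgroup.centralizer (P : Set G)))) :
    Subgroup.centralizer (P : Set G) ≤ pairStab M P e := fun _ hx =>
  ⟨centralizer_le_normalizer P hx, isInv_iff_cj.1 (isInv_emb (isCls_idem e)) _ hx⟩

/-- Elements supported on the centralizer of `P` are `P`-invariant. -/
theorem isInv_of_emb_centralizer (P : Subgroup G)
    (x : MonoidAlgebra (ResField M) (Subgroup.centralizer (P : Set G))) :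
    IsInv P (emb _ x) := by
  intro u hu g
  by_cases hg : g ∈ Subgroup.centralizer (P : Set G)
  · have h2 : u * g = g * u := (Subgroup.mem_centralizer_iff.1 hg) u hu
    rw [h2, mul_inv_cancel_right]
  · have h3 : u * g * u⁻¹ ∉ Subgroup.centralizer (P : Set G) := by
      intro h'
      apply hg
      rw [mem_iff_conj_mem_of_mem_normalizer (mem_normalizer_centralizer
        (Subgroup.le_normalizer hu))]
      exact h'
    rw [coeff_emb_of_notMem _ hg, coeff_emb_of_notMem _ h3]

theorem le_pairStab (P : Subgroup G)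
    (e : Set (IrrCharacter (Subgroup.centralizer (P : Set G)))) : P ≤ pairStab M P e := fun _ hx =>
  ⟨Subgroup.le_normalizer hx, isInv_iff_cj.1 (isInv_of_emb_centralizer P _) _ hx⟩

/-- The Brauer map is `K[C_G(P)]`-linear on the right. -/
theorem br_mul_emb (P : Subgroup G) (x : MonoidAlgebra (ResField M) G)
    (c : MonoidAlgebra (ResField M) (Subgroup.centralizer (P : Set G))) :
    br P (x * emb _ c) = br P x * c := by
  classical
  have := Fintype.ofFinite G
  refine ext_coeff fun g => ?_
  rw [coeff_br, MonoidAlgebra.coeff_mul_apply_right, MonoidAlgebra.coeff_mul_apply_right,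
    Finsupp.sum_fintype _ _ (fun a => mul_zero _), Finsupp.sum_fintype _ _ (fun a => mul_zero _)]
  rw [← Finset.sum_filter_add_sum_filter_not Finset.univ
    (· ∈ Subgroup.centralizer (P : Set G))]
  rw [Finset.sum_eq_zero (s := Finset.univ.filter
    (fun x => ¬ x ∈ Subgroup.centralizer (P : Set G))), add_zero]
  · symm
    refine Finset.sum_bij (fun (z : Subgroup.centralizer (P : Set G)) _ => (z : G)) ?_ ?_ ?_ ?_
    · intro z _
      simp
    · intro z _ z' _ h
      exact Subtype.ext h
    · intro z hz
      have hz' : z ∈ Subgroup.centralizer (P : Set G) := by simpa using hz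
      exact ⟨⟨z, hz'⟩, Finset.mem_univ _, rfl⟩
    · intro z _
      rw [coeff_emb_coe, coeff_br]
      rfl
  · intro z hz
    rw [coeff_emb_of_notMem _ (Finset.mem_filter.1 hz).2, mul_zero]

theorem br_emb_mul (P : Subgroup G) (x : MonoidAlgebra (ResField M) G)
    (c : MonoidAlgebra (ResField M) (Subgroup.centralizer (P : Set G))) :
    br P (emb _ c * x) = c * br P x := by
  classical
  have := Fintype.ofFinite G
  refine ext_coeff fun g => ?_
  rw [coeff_br, MonoidAlgebra.coeff_mul_apply_left, MonoidAlgebra.coeff_mul_apply_left,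
    Finsupp.sum_fintype _ _ (fun a => zero_mul _), Finsupp.sum_fintype _ _ (fun a => zero_mul _)]
  rw [← Finset.sum_filter_add_sum_filter_not Finset.univ
    (· ∈ Subgroup.centralizer (P : Set G))]
  rw [Finset.sum_eq_zero (s := Finset.univ.filter
    (fun x => ¬ x ∈ Subgroup.centralizer (P : Set G))), add_zero]
  · symm
    refine Finset.sum_bij (fun (z : Subgroup.centralizer (P : Set G)) _ => (z : G)) ?_ ?_ ?_ ?_
    · intro z _
      simp
    · intro z _ z' _ h
      exact Subtype.ext h
    · intro z hz
      have hz' : z ∈ Subgroup.centralizer (P : Set G) := by simpa using hz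
      exact ⟨⟨z, hz'⟩, Finset.mem_univ _, rfl⟩
    · intro z _
      rw [coeff_emb_coe, coeff_br]
      rfl
  · intro z hz
    rw [coeff_emb_of_notMem _ (Finset.mem_filter.1 hz).2, zero_mul]

/-- **Normal extensions of a Brauer pair**: `R` is a defect group of `e` regarded as a block of its
stabilizer `T`. -/
theorem exists_normal_extension (hM : IsPModular p M) {P : Subgroup G}
    {e : Set (IrrCharacter (Subgroup.centralizer (P : Set G)))} (hPe : IsBrauerPair p M P e)
    {ξ : IrrCharacter (Subgroup.centralizer (P : Set G))} (hξ : ξ ∈ e) :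
    ∃ (R : Subgroup G) (g : Set (IrrCharacter (Subgroup.centralizer (R : Set G)))) (y : G),
      IsNormalSubpair p M P e R g ∧ R ≤ pairStab M P e ∧
      y ∈ Subgroup.centralizer (R : Set G) ∧
      lam M (ξ : Subgroup.centralizer (P : Set G) → ℂ)
        (br P (tr R (pairStab M P e) (MonoidAlgebra.single y 1))) ≠ 0 := by
  have : Fact p.Prime := ⟨hM.1⟩
  have := charP_resField hM
  set T := pairStab M P e with hT
  have hPT : P ≤ T := le_pairStab P e
  have hU := isUnion_of_isPBlock hPe.2
  have h1 : lam M (ξ : Subgroup.centralizer (P : Set G) → ℂ) (br P (emb _ (idem M e))) ≠ 0 := by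
    unfold br
    rw [res_emb, lam_idem_of_mem hM hU hξ]
    exact one_ne_zero
  obtain ⟨y, hy1, hy2⟩ := exists_clT (T := T)
    ((lam M (ξ : Subgroup.centralizer (P : Set G) → ℂ)).comp (br P)) (isInv_pairStab P e) h1
  have hyC : y ∈ Subgroup.centralizer (P : Set G) := by
    by_contra h
    exact hy1 (coeff_emb_of_notMem _ h)
  obtain ⟨R, c, hRp, hPR, hRT, hRy, hc, hcl⟩ := exists_tr_single (K := ResField M) hPT hPe.1 hyC
  have hyR : y ∈ Subgroup.centralizer (R : Set G) := by
    rw [Subgroup.mem_centralizer_iff]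
    intro u hu
    exact Subgroup.mem_centralizer_singleton_iff.1 (hRy hu)
  -- the Brauer image of `e` at `R` is a nonzero central idempotent
  have hinv : IsInv R (emb _ (idem M e)) := isInv_mono hRT (isInv_pairStab P e)
  have hcls : IsCls (br R (emb _ (idem M e))) := isCls_br_emb hPR (isCls_idem e)
  have hidem : br R (emb _ (idem M e)) * br R (emb _ (idem M e)) = br R (emb _ (idem M e)) := by
    rw [← br_mul (p := p) hRp hinv hinv, mul_idem_emb _ hM hU]
  have hne : br R (emb _ (idem M e)) ≠ 0 := by
    intro h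
    apply hy1
    have h2 : (br R (emb _ (idem M e))).coeff ⟨y, hyR⟩ = 0 := by
      rw [h, MonoidAlgebra.coeff_zero, Finsupp.zero_apply]
    rwa [coeff_br] at h2
  obtain ⟨ζ, hζ⟩ := exists_lam_eq_one hcls hidem hne
  refine ⟨R, (blkOf M ζ).1, y, ?_, hRT, hyR, ?_⟩
  · exact (isNormalSubpair_iff_of_mem hM hPe ⟨hRp, (blkOf M ζ).2⟩ hPR
      (hRT.trans (pairStab_le_normalizer P e)) (mem_blkOf ζ)).2 ⟨hinv, hζ⟩
  · intro h
    apply hy2
    rw [LinearMap.comp_apply, hcl, map_smul, map_smul, h, smul_zero]

/-- If `R = P` in the previous theorem then `P` is a defect group of the block of `(P, e)`. -/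
theorem isDefectGroup_of_lam_tr (hM : IsPModular p M) {B : Set (IrrCharacter G)} {P : Subgroup G}
    {e : Set (IrrCharacter (Subgroup.centralizer (P : Set G)))} (hB : IsBrauerPairOf p M B P e)
    {ξ : IrrCharacter (Subgroup.centralizer (P : Set G))} (hξ : ξ ∈ e)
    {a : MonoidAlgebra (ResField M) G} (ha : IsInv P a)
    (haC : IsInv (Subgroup.centralizer (P : Set G)) (tr P (pairStab M P e) a))
    (h : lam M (ξ : Subgroup.centralizer (P : Set G) → ℂ) (br P (tr P (pairStab M P e) a)) ≠ 0) :
    IsDefectGroup p M B P := by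
  classical
  have : Fact p.Prime := ⟨hM.1⟩
  have := charP_resField hM
  have := Fintype.ofFinite (G ⧸ P)
  set T := pairStab M P e with hT
  set i : MonoidAlgebra (ResField M) G := emb _ (idem M e) with hi
  have hU := isUnion_of_isPBlock hB.1.2
  have hii : i * i = i := mul_idem_emb _ hM hU
  have hiP : IsInv P i := isInv_of_emb_centralizer P _
  set w := a * i with hw
  have hwP : IsInv P w := isInv_mul ha hiP
  have hz : IsCls (tr P ⊤ w) := isCls_iff_isInv_top.2 (isInv_tr le_top hwP)
  -- key computation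
  have key : tr P (Subgroup.normalizer (P : Set G)) w * i = tr P T a * i := by
    rw [tr_def, tr_def, Finset.sum_mul, Finset.sum_mul]
    refine Finset.sum_congr rfl fun q _ => ?_
    by_cases h1 : inCos P T q
    · have h2 : inCos P (Subgroup.normalizer (P : Set G)) q := h1.1
      rw [if_pos h1, if_pos h2, hw, map_mul, isInv_iff_cj.1 (isInv_pairStab P e) _ h1, mul_assoc,
        hii]
    · rw [if_neg h1, zero_mul]
      by_cases h2 : inCos P (Subgroup.normalizer (P : Set G)) q
      · rw [if_pos h2, hw, map_mul, mul_assoc]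
        have h3 : cj (qout q) i * i = 0 := by
          have hN := mem_normalizer_centralizer h2
          rw [hi, ← emb_idem_irrMap (qout q) _ _ (mem_iff_conj_mem_of_mem_normalizer hN),
            ← map_mul, idem_mul_idem_of_ne hM (isPBlock_irrMap hB.1.2) hB.1.2, map_zero]
          intro h4
          apply h1
          refine ⟨h2, ?_⟩
          rw [← emb_idem_irrMap (qout q) _ _ (mem_iff_conj_mem_of_mem_normalizer hN), h4]
        rw [h3, mul_zero]
      · rw [if_neg h2, zero_mul]
  have h1 : lam M (ξ : Subgroup.centralizer (P : Set G) → ℂ) (br P (tr P ⊤ w)) ≠ 0 := by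
    have h2 : lam M (ξ : Subgroup.centralizer (P : Set G) → ℂ) (br P (tr P ⊤ w)) =
        lam M (ξ : Subgroup.centralizer (P : Set G) → ℂ) (br P (tr P ⊤ w) * idem M e) := by
      rw [lam_mul ξ (isCls_br_of_isCls hz) (isCls_idem e), lam_idem_of_mem hM hU hξ, mul_one]
    rw [h2, br_tr_top hB.1.1 hwP, ← br_mul_emb, key, br_mul_emb,
      lam_mul ξ (isCls_br haC) (isCls_idem e), lam_idem_of_mem hM hU hξ, mul_one]
    exact h
  obtain ⟨χ, hχ⟩ := isPBlock_nonempty hB.2.1
  have h3 : lam M (χ : G → ℂ) (tr P ⊤ w) ≠ 0 := by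
    rw [← lam_br_eq_lam hM hB hξ hχ hz]
    exact h1
  obtain ⟨v, hv, hv'⟩ := exists_inv_of_lam hM hz hB.2.1 hχ h3
  have hvB : IsCls (v * idem M B) := isCls_mul hv (isCls_idem B)
  refine isDefectGroup_of_tr hM hB.2.1 hB.1.1 (a := w * (v * idem M B))
    (isInv_mul hwP (isInv_of_isCls hvB _)) ?_ ?_
  · rw [← tr_mul (isInv_of_isCls hvB ⊤), ← mul_assoc, hv']
  · intro h4
    have h5 := ((isBrauerPairOf_iff hM).1 hB).2.2 ξ hξ
    rw [h4, map_zero] at h5
    exact zero_ne_one h5

/-- A pair of `B` without proper normal extensions has a defect group of `B` as its subgroup. -/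
theorem isDefectGroup_of_forall (hM : IsPModular p M) {B : Set (IrrCharacter G)} {P : Subgroup G}
    {e : Set (IrrCharacter (Subgroup.centralizer (P : Set G)))} (hB : IsBrauerPairOf p M B P e)
    (hmax : ∀ (R : Subgroup G) (g : Set (IrrCharacter (Subgroup.centralizer (R : Set G)))),
      IsNormalSubpair p M P e R g → R = P) : IsDefectGroup p M B P := by
  obtain ⟨ξ, hξ⟩ := isPBlock_nonempty hB.1.2
  obtain ⟨R, g, y, h1, hRT, hy, h2⟩ := exists_normal_extension hM hB.1 hξ
  have hR := hmax R g h1
  subst hR
  have hyi : IsInv R (MonoidAlgebra.single y (1 : ResField M)) := isInv_single fun u hu => by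
    rw [Subgroup.mem_centralizer_singleton_iff]
    exact (Subgroup.mem_centralizer_iff.1 hy) u hu
  exact isDefectGroup_of_lam_tr hM hB hξ hyi
    (isInv_mono (centralizer_le_pairStab R e) (isInv_tr hRT hyi)) h2

/-- **S4659** -/
theorem isDefectGroup_of_isMaximalBrauerPair (hM : IsPModular p M) {B : Set (IrrCharacter G)}
    {P : Subgroup G} {e : Set (IrrCharacter (Subgroup.centralizer (P : Set G)))}
    (hmax : IsMaximalBrauerPair p M B P e) : IsDefectGroup p M B P :=
  isDefectGroup_of_forall hM hmax.1 fun R g h =>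
    hmax.2 R g ((isBrauerPairOf_iff_of_isNormalSubpair hM h).2 hmax.1)
      (subpairLE_of_isNormalSubpair h)

/-- Every Brauer pair of `B` lies below a maximal one. -/
theorem exists_maximal_above (hM : IsPModular p M) {B : Set (IrrCharacter G)}
    {P : Subgroup G} {e : Set (IrrCharacter (Subgroup.centralizer (P : Set G)))}
    (hB : IsBrauerPairOf p M B P e) :
    ∃ (R : Subgroup G) (g : Set (IrrCharacter (Subgroup.centralizer (R : Set G)))),
      IsMaximalBrauerPair p M B R g ∧ SubpairLE p M P e R g := by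
  have key : ∀ (n : ℕ) (P : Subgroup G)
      (e : Set (IrrCharacter (Subgroup.centralizer (P : Set G)))), IsBrauerPairOf p M B P e →
      Nat.card G - Nat.card P = n →
      ∃ (R : Subgroup G) (g : Set (IrrCharacter (Subgroup.centralizer (R : Set G)))),
        IsMaximalBrauerPair p M B R g ∧ SubpairLE p M P e R g := by
    intro n
    induction n using Nat.strong_induction_on with
    | _ n ih =>
      intro P e hB hn
      by_cases h : IsMaximalBrauerPair p M B P e
      · exact ⟨P, e, h, subpairLE_refl _ _⟩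
      · have h1 : ¬ ∀ (R : Subgroup G) (g : Set (IrrCharacter (Subgroup.centralizer (R : Set G)))),
            IsBrauerPairOf p M B R g → SubpairLE p M P e R g → R = P := fun h2 => h ⟨hB, h2⟩
        push Not at h1
        obtain ⟨R, g, hRg, hle, hne⟩ := h1
        have hPR : P ≤ R := subpairLE_le hle
        have hcard : Nat.card P < Nat.card R := by
          have h2 : Nat.card P ≤ Nat.card R := Subgroup.card_le_of_le hPR
          refine lt_of_le_of_ne h2 fun h3 => hne ?_
          exact (Subgroup.eq_of_le_of_card_ge hPR h3.ge).symm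
        have hcardR : Nat.card R ≤ Nat.card G := Subgroup.card_le_card_group R
        obtain ⟨S, s, hS, hle'⟩ := ih (Nat.card G - Nat.card R) (by omega) R g hRg rfl
        exact ⟨S, s, hS, subpairLE_trans hle hle'⟩
  exact key _ P e hB rfl

/-- Every block has a maximal Brauer pair. -/
theorem exists_maximal (hM : IsPModular p M) {B : Set (IrrCharacter G)} (hB : IsPBlock M B) :
    ∃ (R : Subgroup G) (g : Set (IrrCharacter (Subgroup.centralizer (R : Set G)))),
      IsMaximalBrauerPair p M B R g := by
  obtain ⟨D, hD⟩ := exists_isDefectGroup hM hB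
  obtain ⟨e, he⟩ := exists_pair_of_le_isDefectGroup hM hB hD le_rfl
  obtain ⟨R, g, h, -⟩ := exists_maximal_above hM he
  exact ⟨R, g, h⟩

/-- A pair of `B` whose subgroup is a defect group is maximal. -/
theorem isMaximalBrauerPair_of_isDefectGroup (hM : IsPModular p M) {B : Set (IrrCharacter G)}
    {P : Subgroup G} {e : Set (IrrCharacter (Subgroup.centralizer (P : Set G)))}
    (hB : IsBrauerPairOf p M B P e) (hD : IsDefectGroup p M B P) :
    IsMaximalBrauerPair p M B P e := by
  refine ⟨hB, fun R g hRg hle => ?_⟩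
  obtain ⟨D, hD', hRD⟩ := exists_isDefectGroup_of_pair hM hRg
  obtain ⟨t, ht⟩ := exists_conj_of_isDefectGroup hM hB.2.1 hD hD'
  have h1 : Nat.card D = Nat.card P := by
    rw [← ht, Subgroup.card_map_of_injective (MulAut.conj t).injective]
  have h2 : Nat.card R ≤ Nat.card D := Subgroup.card_le_of_le hRD
  exact (Subgroup.eq_of_le_of_card_ge (subpairLE_le hle) (by omega)).symm

end Cfsg.Agent.H644
end
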