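import Mathlib
import Cfsg.Agent.H613.ContribVal
import Cfsg.Agent.H648.HeightForm
import Cfsg.Agent.Blocks.ClassSum
set_option linter.all false

/-!
# Contributions of major subsections

`u` is a `p`-element of `G`, `H = C_G(u)`, `b` a block of `H` inducing `B`.

* `contr_congr`: the numbers `|G| / χ 1 * contr p u b χ ψ`, `χ ∈ B`, are congruent modulo `M`;
* `exists_unit_of_major`: if `b` has the same defect `d` as `B` and `ψ ∈ B` has height zero, then
  `p ^ d * contr p u b χ ψ` is `p ^ (height of χ)` times a unit of the local ring.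
-/

set_option autoImplicit false
set_option linter.unusedSectionVars false

open Cfsg
open scoped ComplexConjugate

namespace Cfsg.Agent.H644.MajorVal

open Cfsg.Agent.Blocks.Blau Cfsg.Agent.Blocks.Local Cfsg.Agent.Characters
open Cfsg.Agent.H613.RegGram Cfsg.Agent.H613.Contrib Cfsg.Agent.H613.ContribVal

section group

variable {G : Type*} [Group G]

/-- The `p`-part is a power of the product. -/
theorem exists_pow_eq {v c : G} (h : Commute v c) (hco : Nat.Coprime (orderOf v) (orderOf c)) :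
    ∃ m : ℕ, (v * c) ^ m = v := by
  obtain ⟨m, hm1, hm2⟩ := Nat.chineseRemainder hco 1 0
  refine ⟨m, ?_⟩
  rw [h.mul_pow]
  have h1 : v ^ m = v := by
    have := (pow_eq_pow_iff_modEq (x := v)).2 hm1
    rwa [pow_one] at this
  have h2 : c ^ m = 1 := by
    have := (pow_eq_pow_iff_modEq (x := c)).2 hm2
    rwa [pow_zero] at this
  rw [h1, h2, mul_one]

theorem mem_centralizer_mul_iff {v c : G} (h : Commute v c)
    (hco : Nat.Coprime (orderOf v) (orderOf c)) (g : G) :
    g ∈ Subgroup.centralizer ({v * c} : Set G) ↔ Commute g v ∧ Commute g c := by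
  rw [Subgroup.mem_centralizer_singleton_iff]
  constructor
  · intro hg
    have hg' : Commute g (v * c) := hg
    obtain ⟨m, hm⟩ := exists_pow_eq h hco
    have h1 : Commute g v := by
      have := hg'.pow_right m
      rwa [hm] at this
    refine ⟨h1, ?_⟩
    have h2 : Commute g (v⁻¹ * (v * c)) := h1.inv_right.mul_right hg'
    rwa [inv_mul_cancel_left] at h2
  · rintro ⟨h1, h2⟩
    exact h1.mul_right h2

theorem card_centralizer_mul {v : G} {H : Subgroup G} (hH : H = Subgroup.centralizer ({v} : Set G))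
    (c : H) (hco : Nat.Coprime (orderOf v) (orderOf c)) :
    Nat.card (Subgroup.centralizer ({v * (c : G)} : Set G)) =
      Nat.card (Subgroup.centralizer ({c} : Set H)) := by
  have hcomm : ∀ x : G, x ∈ H ↔ Commute x v := by
    intro x
    rw [hH, Subgroup.mem_centralizer_singleton_iff]
    exact Iff.rfl
  have hvc : Commute v (c : G) := ((hcomm c).1 c.2).symm
  have hco' : Nat.Coprime (orderOf v) (orderOf (c : G)) := by
    rwa [Subgroup.orderOf_coe]
  have h1 : Subgroup.centralizer ({v * (c : G)} : Set G) =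
      (Subgroup.centralizer ({c} : Set H)).map H.subtype := by
    ext g
    rw [mem_centralizer_mul_iff hvc hco', Subgroup.mem_map]
    constructor
    · rintro ⟨h1, h2⟩
      refine ⟨⟨g, (hcomm g).2 h1⟩, ?_, rfl⟩
      rw [Subgroup.mem_centralizer_singleton_iff]
      exact Subtype.ext h2
    · rintro ⟨x, hx, rfl⟩
      refine ⟨(hcomm x).1 x.2, ?_⟩
      have := Subgroup.mem_centralizer_singleton_iff.1 hx
      exact congrArg Subtype.val this
  rw [h1]
  exact Nat.card_congr (Subgroup.equivMapOfInjective _ _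
      (Subgroup.subtype_injective _)).toEquiv.symm

end group

section classes

variable {K : Type*} [Group K] [Fintype K] {M : Ideal AlgInt}

theorem sum_index_mem [M.IsPrime] {F : K → ℂ} (hF : IsClassFunction K F)
    (h : ∀ c, MemLocalIdeal M (F c)) :
    MemLocalIdeal M (∑ c : K, F c * ((Nat.card (Subgroup.centralizer ({c} : Set K)) : ℂ) /
      (Nat.card K : ℂ))) := by
  obtain ⟨T, hT⟩ := Blocks.ClassSum.exists_reps (G := K)
  rw [hT F _ hF]
  refine memLocalIdeal_sum fun t _ => ?_
  have hK : (Nat.card K : ℂ) ≠ 0 := by exact_mod_cast Nat.card_pos.ne'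
  have h1 : ∑ᶠ y ∈ {y : K | IsConj t y}, ((Nat.card (Subgroup.centralizer ({y} : Set K)) : ℂ) /
      (Nat.card K : ℂ)) = 1 := by
    have h2 : ∀ y ∈ {y : K | IsConj t y}, ((Nat.card (Subgroup.centralizer ({y} : Set K)) : ℂ) /
      (Nat.card K : ℂ)) = ((Nat.card (Subgroup.centralizer ({t} : Set K)) : ℂ) /
      (Nat.card K : ℂ)) * ((1 : K → ℂ) y / (1 : K → ℂ) 1) := by
      intro y hy
      have e1 := (Subgroup.centralizer ({y} : Set K)).card_mul_index
      have e2 := (Subgroup.centralizer ({t} : Set K)).card_mul_index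
      have e3 : (Subgroup.centralizer ({y} : Set K)).index =
          (Subgroup.centralizer ({t} : Set K)).index := by
        rw [index_centralizer_eq, index_centralizer_eq]
        congr 1
        ext x
        exact ⟨fun hx => (show IsConj t y from hy).trans hx,
          fun hx => (show IsConj t y from hy).symm.trans hx⟩
      have e4 : Nat.card (Subgroup.centralizer ({y} : Set K)) =
          Nat.card (Subgroup.centralizer ({t} : Set K)) := by
        have h0 : (Subgroup.centralizer ({t} : Set K)).index ≠ 0 :=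
          Subgroup.index_ne_zero_of_finite
        apply Nat.eq_of_mul_eq_mul_right (Nat.pos_of_ne_zero h0)
        rw [e2, ← e3, e1]
      rw [e4]
      simp
    rw [finsum_mem_congr rfl h2, ← mul_finsum_mem,
      Blocks.ClassSum.finsum_conj_div (isIrr_one_classFunction)]
    unfold centralChar
    have e2 := (Subgroup.centralizer ({t} : Set K)).card_mul_index
    have e2' : (Nat.card (Subgroup.centralizer ({t} : Set K)) : ℂ) *
      ((Subgroup.centralizer ({t} : Set K)).index : ℂ) = (Nat.card K : ℂ) := by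
      exact_mod_cast e2
    simp only [Pi.one_apply, mul_one, div_one]
    rw [div_mul_eq_mul_div, e2', div_self hK]
  rw [h1, mul_one]
  exact h t
where
  isIrr_one_classFunction : IsClassFunction K (1 : K → ℂ) := fun _ _ => rfl

end classes

section major

variable {G : Type*} [Group G] [Fintype G] {p : ℕ} [Fact p.Prime] {M : Ideal AlgInt}
  {u : G} {H : Subgroup G} [Fintype H] [Fintype (IrrCharacter H)]
  {n : IrrCharacter G → IrrCharacter H → ℕ} {e : IrrCharacter H → ℂ}

/-- The `b`-part of `c ↦ ψ (u ^ k c)`. -/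
noncomputable def bpart (n : IrrCharacter G → IrrCharacter H → ℕ) (e : IrrCharacter H → ℂ)
    (b : Set (IrrCharacter H)) [Fintype b] (ψ : IrrCharacter G) (k : ℕ) (c : H) : ℂ :=
  ∑ ξ : b, (n ψ ξ : ℂ) * e ξ ^ k * ((ξ : IrrCharacter H) : H → ℂ) c

theorem bpart_isClassFunction (b : Set (IrrCharacter H)) [Fintype b] (ψ : IrrCharacter G) (k : ℕ) :
    IsClassFunction H (bpart n e b ψ k) := by
  intro g h
  unfold bpart
  exact Finset.sum_congr rfl fun ξ _ => by rw [Core.isIrr_isClassFunction ξ.1.2 g h]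

theorem isIntegral_bpart {q : ℕ} (hq : 0 < q) (hE : Exp u H q n e) (b : Set (IrrCharacter H))
    [Fintype b] (ψ : IrrCharacter G) (k : ℕ) (c : H) : IsIntegral ℤ (bpart n e b ψ k c) := by
  unfold bpart
  refine IsIntegral.sum _ fun ξ _ => ?_
  refine ((isIntegral_natCast).mul ?_).mul (isIntegral_of_isCharacter
    (Core.isIrr_isCharacter ξ.1.2) c)
  refine IsIntegral.pow ?_ k
  refine IsIntegral.of_pow hq ?_
  rw [hE.root]
  exact isIntegral_one
where
  isIntegral_natCast {m : ℕ} : IsIntegral ℤ (m : ℂ) := by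
    have : ((m : ℤ) : ℂ) = (m : ℂ) := by push_cast; rfl
    rw [← this]
    exact isIntegral_algebraMap (R := ℤ) (A := ℂ) (x := (m : ℤ))

theorem contr_eq_bpart (hM : IsPModular p M) {q : ℕ} (hE : Exp u H q n e)
    {b : Set (IrrCharacter H)} [Fintype b] (hb : IsPBlock M b) (χ ψ : IrrCharacter G) {k : ℕ}
    (hk : H = Subgroup.centralizer ({u ^ k} : Set G)) :
    contr p (u ^ k) b (χ : G → ℂ) (ψ : G → ℂ) =
      (Nat.card H : ℂ)⁻¹ * ∑ c : H, regPart p (fun c : H => (χ : G → ℂ) (u ^ k * (c : G))) c *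
        conj (bpart n e b ψ k c) := by
  classical
  rw [contr_eq_sum_wt hM hE hb (Core.isIrr_isClassFunction χ.2) ψ hk, Finset.mul_sum]
  have h1 : ∀ ξ : b, (n ψ ξ : ℂ) * conj (e ξ ^ k) * wt p (u ^ k) (χ : G → ℂ)
      ((ξ : IrrCharacter H) : H → ℂ) = ∑ c : H, (Nat.card H : ℂ)⁻¹ *
      (regPart p (fun c : H => (χ : G → ℂ) (u ^ k * (c : G))) c *
        conj ((n ψ ξ : ℂ) * e ξ ^ k * ((ξ : IrrCharacter H) : H → ℂ) c)) := by
    intro ξ
    rw [wt_def, rg_def, pair_eq_sum_filter, Finset.sum_filter, Finset.mul_sum, Finset.mul_sum]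
    refine Finset.sum_congr rfl fun c _ => ?_
    by_cases hc : p ∣ orderOf c
    · rw [regPart_of_dvd hc, if_neg (not_not.2 hc)]; ring
    · rw [regPart_of_not_dvd hc, if_pos hc, map_mul, map_mul, Complex.conj_natCast]; ring
  rw [Finset.sum_congr rfl fun ξ _ => h1 ξ, Finset.sum_comm]
  refine Finset.sum_congr rfl fun c _ => ?_
  rw [← Finset.mul_sum, ← Finset.mul_sum, ← map_sum]
  rfl

/-- The scaled contribution in terms of the central character. -/
theorem scaled_contr (hM : IsPModular p M) {j : ℕ} (hE : Exp u H (p ^ j) n e)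
    (hu : u ^ p ^ j = 1)
    {b : Set (IrrCharacter H)} [Fintype b] (hb : IsPBlock M b) (χ ψ : IrrCharacter G) {k : ℕ}
    (hk : H = Subgroup.centralizer ({u ^ k} : Set G)) :
    (Nat.card G : ℂ) / (χ : G → ℂ) 1 * contr p (u ^ k) b (χ : G → ℂ) (ψ : G → ℂ) =
      ∑ c : H, (regPart p (fun c : H => centralChar (χ : G → ℂ) (u ^ k * (c : G))) c *
        conj (bpart n e b ψ k c)) * ((Nat.card (Subgroup.centralizer ({c} : Set H)) : ℂ) /
      (Nat.card H : ℂ)) := by
  have hp : p.Prime := Fact.out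
  rw [contr_eq_bpart hM hE hb χ ψ hk, Finset.mul_sum, Finset.mul_sum]
  refine Finset.sum_congr rfl fun c _ => ?_
  by_cases hc : p ∣ orderOf c
  · rw [regPart_of_dvd hc, regPart_of_dvd hc]; ring
  · rw [regPart_of_not_dvd hc, regPart_of_not_dvd hc]
    have hco : Nat.Coprime (orderOf (u ^ k)) (orderOf c) := by
      have h1 : (u ^ k) ^ p ^ j = 1 := by rw [← pow_mul, mul_comm, pow_mul, hu, one_pow]
      exact Nat.Coprime.coprime_dvd_left (orderOf_dvd_of_pow_eq_one h1)
        (Nat.Coprime.pow_left _ ((Nat.Prime.coprime_iff_not_dvd hp).2 hc))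
    have h1 := card_centralizer_mul hk c hco
    have h2 := (Subgroup.centralizer ({u ^ k * (c : G)} : Set G)).card_mul_index
    rw [h1] at h2
    have h3 : (Nat.card (Subgroup.centralizer ({c} : Set H)) : ℂ) *
      ((Subgroup.centralizer ({u ^ k * (c : G)} : Set G)).index : ℂ) = (Nat.card G : ℂ) := by
      exact_mod_cast h2
    unfold centralChar
    rw [← h3]
    ring

/-- The scaled contributions are congruent. -/
theorem contr_congr (hM : IsPModular p M) {j : ℕ} (hE : Exp u H (p ^ j) n e)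
    (hu : u ^ p ^ j = 1)
    {b : Set (IrrCharacter H)} [Fintype b] (hb : IsPBlock M b) {χ χ' : IrrCharacter G}
    (h : SameBlock M (χ : G → ℂ) (χ' : G → ℂ)) (ψ : IrrCharacter G) {k : ℕ}
    (hk : H = Subgroup.centralizer ({u ^ k} : Set G)) :
    MemLocalIdeal M ((Nat.card G : ℂ) / (χ : G → ℂ) 1 *
        contr p (u ^ k) b (χ : G → ℂ) (ψ : G → ℂ) -
      (Nat.card G : ℂ) / (χ' : G → ℂ) 1 *
        contr p (u ^ k) b (χ' : G → ℂ) (ψ : G → ℂ)) := by
  have := isPrime_of_isPModular hM
  have hp : p.Prime := Fact.out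
  rw [scaled_contr hM hE hu hb χ ψ hk, scaled_contr hM hE hu hb χ' ψ hk,
    ← Finset.sum_sub_distrib]
  have h1 : ∀ c : H, (regPart p (fun c : H => centralChar (χ : G → ℂ) (u ^ k * (c : G))) c *
        conj (bpart n e b ψ k c)) * ((Nat.card (Subgroup.centralizer ({c} : Set H)) : ℂ) /
      (Nat.card H : ℂ)) -
      (regPart p (fun c : H => centralChar (χ' : G → ℂ) (u ^ k * (c : G))) c *
        conj (bpart n e b ψ k c)) * ((Nat.card (Subgroup.centralizer ({c} : Set H)) : ℂ) /
      (Nat.card H : ℂ)) =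
      (regPart p (fun c : H => centralChar (χ : G → ℂ) (u ^ k * (c : G)) -
        centralChar (χ' : G → ℂ) (u ^ k * (c : G))) c *
        conj (bpart n e b ψ k c)) * ((Nat.card (Subgroup.centralizer ({c} : Set H)) : ℂ) /
      (Nat.card H : ℂ)) := by
    intro c
    by_cases hc : p ∣ orderOf c
    · rw [regPart_of_dvd hc, regPart_of_dvd hc, regPart_of_dvd hc]; ring
    · rw [regPart_of_not_dvd hc, regPart_of_not_dvd hc, regPart_of_not_dvd hc]; ring
  rw [Finset.sum_congr rfl fun c _ => h1 c]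
  apply sum_index_mem
  · have hcc : ∀ χ : IrrCharacter G, IsClassFunction G (centralChar (χ : G → ℂ)) := by
      intro χ x y
      unfold centralChar
      rw [Core.isIrr_isClassFunction χ.2 x y, index_centralizer_eq, index_centralizer_eq]
      congr 4
      ext z
      have hxy : IsConj x (y * x * y⁻¹) := isConj_iff.2 ⟨y, rfl⟩
      exact ⟨fun hz => hxy.trans hz, fun hz => hxy.symm.trans hz⟩
    have h2 : IsClassFunction H (fun c : H => centralChar (χ : G → ℂ) (u ^ k * (c : G)) -
        centralChar (χ' : G → ℂ) (u ^ k * (c : G))) := by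
      have e1 := isClassFunction_mul hk (hcc χ)
      have e2 := isClassFunction_mul hk (hcc χ')
      intro g h
      have e3 := e1 g h
      have e4 := e2 g h
      simp only at e3 e4 ⊢
      rw [e3, e4]
    intro g h
    simp only
    rw [regPart_isClassFunction h2 g h, bpart_isClassFunction b ψ k g h]
  · intro c
    by_cases hc : p ∣ orderOf c
    · rw [regPart_of_dvd hc, zero_mul]; exact memLocalIdeal_zero
    · rw [regPart_of_not_dvd hc]
      exact memLocalIdeal_mul_right (h _) (memLocalRing_of_isIntegral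
        (isIntegral_conj (isIntegral_bpart (pow_pos hp.pos j) hE b ψ k c)))

/-- For a major subsection `(u, b)` and `ψ` of height zero, `p ^ d * contr χ ψ` is
`p ^ (height of χ)` times a unit. -/
theorem exists_unit_of_major (hM : IsPModular p M) {j : ℕ} (hE : Exp u H (p ^ j) n e)
    (hu : u ^ p ^ j = 1) {b : Set (IrrCharacter H)} [Fintype b] {B : Set (IrrCharacter G)}
    (hind : IsInducedBlock M H b B) (hd : blockDefect p b = blockDefect p B)
    {χ ψ : IrrCharacter G} (hχ : χ ∈ B) (hψ : ψ ∈ B)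
    (hψ0 : blockHeight p B (ψ : G → ℂ) = 0) {k : ℕ}
    (hk : H = Subgroup.centralizer ({u ^ k} : Set G)) :
    ∃ z : ℂ, MemLocalRing M z ∧ ¬ MemLocalIdeal M z ∧
      (p : ℂ) ^ blockDefect p b * contr p (u ^ k) b (χ : G → ℂ) (ψ : G → ℂ) =
        (p : ℂ) ^ blockHeight p B (χ : G → ℂ) * z := by
  have := isPrime_of_isPModular hM
  obtain ⟨χ', hχ', hχ'0⟩ := exists_blockHeight_eq_zero p (isPBlock_nonempty hM hind.2.1)
  obtain ⟨v, hv1, hv2, hv0, hv⟩ := H648.HeightForm.scaled_eq hM hχ
    (contr p (u ^ k) b (χ : G → ℂ) (ψ : G → ℂ))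
  obtain ⟨v', hv1', hv2', hv0', hv'⟩ := H648.HeightForm.scaled_eq hM hχ'
    (contr p (u ^ k) b (χ' : G → ℂ) (ψ : G → ℂ))
  push_cast at hv hv'
  rw [hχ'0, pow_zero, one_mul] at hv'
  have h1 := not_memLocalIdeal_contr hM hE hind hχ' hψ hχ'0 hψ0 hk
  -- the contribution is in the local ring
  have hR : ∀ χ : IrrCharacter G, MemLocalRing M ((p : ℂ) ^ blockDefect p b *
      contr p (u ^ k) b (χ : G → ℂ) (ψ : G → ℂ)) := by
    intro χ
    obtain ⟨ξ₀, hξ₀, hξ₀0⟩ := exists_blockHeight_eq_zero p (isPBlock_nonempty hM hind.1)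
    rw [memLocalRing_iff_of_sub (memLocalIdeal_contr_sub hM hE hind.1 hξ₀ hξ₀0 χ ψ hk)]
    exact memLocalRing_mul (memLocalRing_mul
      (memLocalRing_pow_mul_rg hM hξ₀ (Core.isIrr_isCharacter ξ₀.2))
      (memLocalRing_dg hM hξ₀0 χ)) (memLocalRing_dg hM hξ₀0 ψ)
  have hcong := contr_congr hM hE hu hind.1 (sameBlock_of_mem hM hind.2.1 hχ hχ') ψ hk
  set s := (Nat.card G : ℂ) / (χ : G → ℂ) 1 * contr p (u ^ k) b (χ : G → ℂ) (ψ : G → ℂ) with hs
  set s' := (Nat.card G : ℂ) / (χ' : G → ℂ) 1 *
    contr p (u ^ k) b (χ' : G → ℂ) (ψ : G → ℂ) with hs'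
  rw [← hd] at hv hv'
  have hs'R : MemLocalRing M s' := by
    have h2 := memLocalRing_mul hv2' (hR χ')
    rw [hv', inv_mul_cancel_left₀ hv0'] at h2
    exact h2
  have hs'I : ¬ MemLocalIdeal M s' := by
    intro h
    apply h1
    rw [hv']
    exact memLocalIdeal_mul_left hv1' h
  have hsR : MemLocalRing M s := by
    rw [memLocalRing_iff_of_sub hcong]
    exact hs'R
  have hsI : ¬ MemLocalIdeal M s := by
    rw [memLocalIdeal_iff_of_sub hcong]
    exact hs'I
  refine ⟨v * s, memLocalRing_mul hv1 hsR, ?_, hv⟩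
  intro h
  apply hsI
  have h2 := memLocalIdeal_mul_left hv2 h
  rwa [inv_mul_cancel_left₀ hv0] at h2

end major

end Cfsg.Agent.H644.MajorVal
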