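import Mathlib
import Cfsg.Agent.H613.ContribVal
import Cfsg.Agent.Blocks.PRegular
import Cfsg.Agent.Blocks.Deflate
import Cfsg.Agent.Blocks.DefectCard
import Cfsg.Agent.S0907
import Cfsg.Agent.H644.Trace
set_option linter.all false

/-!
# Blocks and a central `p`-subgroup

`U` is a central `p`-subgroup of `G`, `b` a block of `G` and `defl U b` the set of the
irreducible characters of `G ⧸ U` whose inflation lies in `b`.

* `isPBlock_defl`: `defl U b` is a block of `G ⧸ U`;
* `push p U f`: the class function on `G ⧸ U` with the values of `f` at the `p`-regular elements;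
* `rg_push_left`, `rg_push_push`;
* `blockRank_defl`: `l (defl U b) = l b`;
* `blockDefect_defl`: the defect of `defl U b` is the defect of `b` minus the exponent of `U`.
-/

set_option autoImplicit false
set_option linter.unusedSectionVars false

open Cfsg
open scoped ComplexConjugate

namespace Cfsg.Agent.H644.CentralQuot

open Cfsg.Agent.Blocks.Blau Cfsg.Agent.Blocks.Local Cfsg.Agent.Characters
open Cfsg.Agent.H613.RegGram
open Cfsg.Agent.Blocks.PRegular

variable {G : Type*} [Group G]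

/-- Inflation. -/
noncomputable def infl (U : Subgroup G) [U.Normal] (θ : IrrCharacter (G ⧸ U)) : IrrCharacter G :=
  ⟨(θ : G ⧸ U → ℂ) ∘ (QuotientGroup.mk' U),
    Core.isIrr_comp (QuotientGroup.mk' U) (QuotientGroup.mk'_surjective U) θ.2⟩

theorem infl_apply (U : Subgroup G) [U.Normal] (θ : IrrCharacter (G ⧸ U)) (g : G) :
    (infl U θ : G → ℂ) g = (θ : G ⧸ U → ℂ) (QuotientGroup.mk g) := rfl

theorem infl_coe (U : Subgroup G) [U.Normal] (θ : IrrCharacter (G ⧸ U)) :
    (infl U θ : G → ℂ) = fun g => (θ : G ⧸ U → ℂ) (QuotientGroup.mk g) := rfl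

theorem infl_one (U : Subgroup G) [U.Normal] (θ : IrrCharacter (G ⧸ U)) :
    (infl U θ : G → ℂ) 1 = (θ : G ⧸ U → ℂ) 1 := rfl

theorem infl_injective (U : Subgroup G) [U.Normal] : Function.Injective (infl U) := by
  intro θ θ' h
  apply Subtype.ext
  funext x
  obtain ⟨g, rfl⟩ := QuotientGroup.mk_surjective x
  exact congrFun (congrArg Subtype.val h) g

/-- The set of the irreducible characters of the quotient with inflation in `b`. -/
def defl (U : Subgroup G) [U.Normal] (b : Set (IrrCharacter G)) : Set (IrrCharacter (G ⧸ U)) :=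
  {θ | infl U θ ∈ b}

theorem mem_defl {U : Subgroup G} [U.Normal] {b : Set (IrrCharacter G)} {θ : IrrCharacter (G ⧸ U)} :
    θ ∈ defl U b ↔ infl U θ ∈ b := Iff.rfl

theorem charDegree_infl (U : Subgroup G) [U.Normal] (θ : IrrCharacter (G ⧸ U)) :
    charDegree (infl U θ : G → ℂ) = charDegree (θ : G ⧸ U → ℂ) := rfl

section central

variable {p : ℕ} [Fact p.Prime] {U : Subgroup G} [U.Normal]

/-- Two `p`-regular elements in a coset of a central `p`-subgroup are equal. -/
theorem eq_of_mk_eq (hU : U ≤ Subgroup.center G) (hp : IsPGroup p U) {g h : G}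
    (hg : ¬ p ∣ orderOf g) (hh : ¬ p ∣ orderOf h)
    (hgh : (QuotientGroup.mk g : G ⧸ U) = QuotientGroup.mk h) : g = h := by
  have hpr : p.Prime := Fact.out
  rw [QuotientGroup.eq] at hgh
  have hc := hU hgh
  have hcomm : Commute g (g⁻¹ * h) := (Subgroup.mem_center_iff.1 hc g)
  have hgh' : Commute g h := by
    have h1 : g * (g⁻¹ * h) = g⁻¹ * h * g := hcomm
    have h2 : g * h = h * g := by
      calc g * h = g * (g * (g⁻¹ * h)) := by group
        _ = g * (g⁻¹ * h * g) := by rw [h1]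
        _ = h * g := by group
    exact h2
  obtain ⟨k, hk⟩ := hp ⟨_, hgh⟩
  have hk' : (g⁻¹ * h) ^ p ^ k = 1 := by
    have := congrArg Subtype.val hk
    simpa using this
  have h1 : (g⁻¹ * h) ^ (orderOf g * orderOf h) = 1 := by
    rw [hgh'.inv_left.mul_pow, pow_mul, mul_comm (orderOf g), pow_mul h, pow_orderOf_eq_one,
      one_pow, mul_one, inv_pow, pow_orderOf_eq_one]
    simp
  have h2 : orderOf (g⁻¹ * h) ∣ Nat.gcd (p ^ k) (orderOf g * orderOf h) :=
    Nat.dvd_gcd (orderOf_dvd_of_pow_eq_one hk') (orderOf_dvd_of_pow_eq_one h1)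
  have h3 : Nat.gcd (p ^ k) (orderOf g * orderOf h) = 1 := by
    apply Nat.Coprime.pow_left k
    rw [Nat.Prime.coprime_iff_not_dvd hpr, hpr.dvd_mul]
    push Not
    exact ⟨hg, hh⟩
  rw [h3, Nat.dvd_one, orderOf_eq_one_iff, inv_mul_eq_one] at h2
  exact h2

theorem not_dvd_orderOf_mk {g : G} (hg : ¬ p ∣ orderOf g) :
    ¬ p ∣ orderOf (QuotientGroup.mk g : G ⧸ U) := fun h =>
  hg (h.trans (orderOf_map_dvd (QuotientGroup.mk' U) g))

theorem mem_centralizer_iff (hU : U ≤ Subgroup.center G) (hp : IsPGroup p U) {g : G}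
    (hg : ¬ p ∣ orderOf g) (x : G) :
    (QuotientGroup.mk x : G ⧸ U) ∈ Subgroup.centralizer ({(QuotientGroup.mk g : G ⧸ U)} : Set _) ↔
      x ∈ Subgroup.centralizer ({g} : Set G) := by
  rw [Subgroup.mem_centralizer_singleton_iff, Subgroup.mem_centralizer_singleton_iff]
  constructor
  · intro h
    have h1 : (QuotientGroup.mk (x * g * x⁻¹) : G ⧸ U) = QuotientGroup.mk g := by
      rw [QuotientGroup.mk_mul, QuotientGroup.mk_mul, h, mul_assoc, ← QuotientGroup.mk_mul,
        mul_inv_cancel, QuotientGroup.mk_one, mul_one]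
    have h2 := eq_of_mk_eq hU hp (by rwa [orderOf_conj_eq]) hg h1
    exact mul_inv_eq_iff_eq_mul.1 h2
  · intro h
    rw [← QuotientGroup.mk_mul, h, QuotientGroup.mk_mul]

theorem index_centralizer_mk (hU : U ≤ Subgroup.center G) (hp : IsPGroup p U) {g : G}
    (hg : ¬ p ∣ orderOf g) :
    (Subgroup.centralizer ({(QuotientGroup.mk g : G ⧸ U)} : Set (G ⧸ U))).index =
      (Subgroup.centralizer ({g} : Set G)).index := by
  rw [← Subgroup.index_comap_of_surjective _ (QuotientGroup.mk'_surjective U)]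
  congr 1
  ext x
  rw [Subgroup.mem_comap]
  exact mem_centralizer_iff hU hp hg x

theorem centralChar_infl (hU : U ≤ Subgroup.center G) (hp : IsPGroup p U)
    (θ : IrrCharacter (G ⧸ U)) {g : G} (hg : ¬ p ∣ orderOf g) :
    centralChar (infl U θ : G → ℂ) g = centralChar (θ : G ⧸ U → ℂ) (QuotientGroup.mk g) := by
  unfold centralChar
  rw [index_centralizer_mk hU hp hg]
  rfl

variable [Fintype G] {M : Ideal AlgInt}

theorem sameBlock_infl_iff (hM : IsPModular p M) (hU : U ≤ Subgroup.center G) (hp : IsPGroup p U)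
    (θ θ' : IrrCharacter (G ⧸ U)) :
    SameBlock M (infl U θ : G → ℂ) (infl U θ' : G → ℂ) ↔
      SameBlock M (θ : G ⧸ U → ℂ) (θ' : G ⧸ U → ℂ) := by
  have := Fintype.ofFinite (G ⧸ U)
  rw [sameBlock_iff_of_isPRegular hM, sameBlock_iff_of_isPRegular hM]
  constructor
  · intro h x hx
    obtain ⟨g, hg, rfl⟩ := exists_isPRegular_lift G p U hx
    rw [← centralChar_infl hU hp θ hg, ← centralChar_infl hU hp θ' hg]
    exact h g hg
  · intro h g hg
    rw [centralChar_infl hU hp θ hg, centralChar_infl hU hp θ' hg]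
    exact h _ (not_dvd_orderOf_mk hg)

theorem exists_mem_defl (hM : IsPModular p M) (hp : IsPGroup p U) {b : Set (IrrCharacter G)}
    (hb : IsPBlock M b) : ∃ θ, θ ∈ defl U b := by
  obtain ⟨ξ, rfl⟩ := hb
  obtain ⟨θ, hθ⟩ := exists_inflation_sameBlock hM U hp ξ.2
  exact ⟨θ, hθ⟩

theorem isPBlock_defl (hM : IsPModular p M) (hU : U ≤ Subgroup.center G) (hp : IsPGroup p U)
    {b : Set (IrrCharacter G)} (hb : IsPBlock M b) : IsPBlock M (defl U b) := by
  obtain ⟨θ, hθ⟩ := exists_mem_defl hM hp hb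
  refine ⟨θ, ?_⟩
  ext θ'
  show infl U θ' ∈ b ↔ SameBlock M (θ : G ⧸ U → ℂ) (θ' : G ⧸ U → ℂ)
  rw [← sameBlock_infl_iff hM hU hp]
  exact ⟨fun h => sameBlock_of_mem hM hb hθ h, fun h => mem_of_sameBlock hM hb hθ h⟩

/-- The class function on the quotient with the values of `f` at the `p`-regular elements. -/
noncomputable def push (p : ℕ) (U : Subgroup G) [U.Normal] (f : G → ℂ) : G ⧸ U → ℂ :=
  haveI := Classical.decEq (G ⧸ U)
  fun x => ∑ g with (QuotientGroup.mk g : G ⧸ U) = x, regPart p f g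

omit [Fact p.Prime] in
theorem isClassFunction_push' {f : G → ℂ} (hf : IsClassFunction G f) :
    IsClassFunction (G ⧸ U) (push p U f) :=
  @isClassFunction_push _ _ _ U _ (Classical.decEq _) _ (regPart_isClassFunction hf)

theorem push_mk (hU : U ≤ Subgroup.center G) (hp : IsPGroup p U) (f : G → ℂ) {g : G}
    (hg : ¬ p ∣ orderOf g) : push p U f (QuotientGroup.mk g) = f g := by
  let _ := Classical.decEq (G ⧸ U)
  unfold push
  refine (Finset.sum_eq_single_of_mem g ?_ ?_).trans (regPart_of_not_dvd hg)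
  · exact Finset.mem_filter.2 ⟨Finset.mem_univ _, rfl⟩
  · intro h hh hne
    have hh' := (Finset.mem_filter.1 hh).2
    apply regPart_of_dvd
    by_contra hord
    exact hne (eq_of_mk_eq hU hp hord hg hh')

theorem sum_reg_mk [Fintype (G ⧸ U)] (hU : U ≤ Subgroup.center G) (hp : IsPGroup p U)
    [DecidablePred fun x : G => ¬ p ∣ orderOf x] [DecidablePred fun x : G ⧸ U => ¬ p ∣ orderOf x]
    (F : G ⧸ U → ℂ) :
    ∑ x : G ⧸ U with ¬ p ∣ orderOf x, F x =
      ∑ g : G with ¬ p ∣ orderOf g, F (QuotientGroup.mk g) := by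
  symm
  refine Finset.sum_bij (fun g _ => (QuotientGroup.mk g : G ⧸ U)) ?_ ?_ ?_ ?_
  · intro g hg
    rw [Finset.mem_filter] at hg ⊢
    exact ⟨Finset.mem_univ _, not_dvd_orderOf_mk hg.2⟩
  · intro g hg h hh hgh
    rw [Finset.mem_filter] at hg hh
    exact eq_of_mk_eq hU hp hg.2 hh.2 hgh
  · intro x hx
    rw [Finset.mem_filter] at hx
    obtain ⟨g, hg, rfl⟩ := exists_isPRegular_lift G p U hx.2
    exact ⟨g, Finset.mem_filter.2 ⟨Finset.mem_univ _, hg⟩, rfl⟩
  · intro g _
    rfl

theorem pair_push [Fintype (G ⧸ U)] (hU : U ≤ Subgroup.center G) (hp : IsPGroup p U)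
    (f : G → ℂ) (F : G ⧸ U → ℂ) :
    pair p (push p U f) F = pair p f (fun g => F (QuotientGroup.mk g)) := by
  classical
  rw [H613.Contrib.pair_eq_sum_filter, H613.Contrib.pair_eq_sum_filter, sum_reg_mk hU hp]
  refine Finset.sum_congr rfl fun g hg => ?_
  rw [Finset.mem_filter] at hg
  rw [push_mk hU hp f hg.2]

theorem card_eq (U : Subgroup G) [U.Normal] :
    (Nat.card G : ℂ) = (Nat.card (G ⧸ U) : ℂ) * (Nat.card U : ℂ) := by
  rw [← Nat.cast_mul, ← Subgroup.card_eq_card_quotient_mul_card_subgroup]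

theorem inv_card_eq (U : Subgroup G) [U.Normal] :
    (Nat.card (G ⧸ U) : ℂ)⁻¹ = (Nat.card U : ℂ) * (Nat.card G : ℂ)⁻¹ := by
  have h1 : (Nat.card U : ℂ) ≠ 0 := by exact_mod_cast Nat.card_pos.ne'
  have h2 : (Nat.card (G ⧸ U) : ℂ) ≠ 0 := by exact_mod_cast Nat.card_pos.ne'
  rw [card_eq U]
  field_simp

theorem rg_push [Fintype (G ⧸ U)] (hU : U ≤ Subgroup.center G) (hp : IsPGroup p U)
    (f : G → ℂ) (F : G ⧸ U → ℂ) :
    rg p (push p U f) F = (Nat.card U : ℂ) * rg p f (fun g => F (QuotientGroup.mk g)) := by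
  rw [rg_def, rg_def, pair_push hU hp, inv_card_eq, mul_assoc]

/-- The Gram form and inflation. -/
theorem rg_push_infl [Fintype (G ⧸ U)] (hU : U ≤ Subgroup.center G) (hp : IsPGroup p U)
    (f : G → ℂ) (θ : IrrCharacter (G ⧸ U)) :
    rg p (push p U f) (θ : G ⧸ U → ℂ) = (Nat.card U : ℂ) * rg p f (infl U θ : G → ℂ) :=
  rg_push hU hp f _

theorem rg_infl [Fintype (G ⧸ U)] (hU : U ≤ Subgroup.center G) (hp : IsPGroup p U)
    (θ θ' : IrrCharacter (G ⧸ U)) :
    rg p (θ : G ⧸ U → ℂ) (θ' : G ⧸ U → ℂ) =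
      (Nat.card U : ℂ) * rg p (infl U θ : G → ℂ) (infl U θ' : G → ℂ) := by
  classical
  rw [rg_def, rg_def, inv_card_eq, mul_assoc]
  congr 2
  rw [H613.Contrib.pair_eq_sum_filter, H613.Contrib.pair_eq_sum_filter, sum_reg_mk hU hp]
  rfl

theorem rg_push_push [Fintype (G ⧸ U)] (hU : U ≤ Subgroup.center G) (hp : IsPGroup p U)
    (f f' : G → ℂ) :
    rg p (push p U f) (push p U f') = (Nat.card U : ℂ) * rg p f f' := by
  classical
  rw [rg_push hU hp, rg_def, rg_def]
  congr 2
  rw [H613.Contrib.pair_eq_sum_filter, H613.Contrib.pair_eq_sum_filter]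
  refine Finset.sum_congr rfl fun g hg => ?_
  rw [Finset.mem_filter] at hg
  rw [push_mk hU hp f' hg.2]

/-- The Parseval identity for the pushed down members of a block. -/
theorem sum_rg_push [Fintype (G ⧸ U)] (hU : U ≤ Subgroup.center G)
    (hp : IsPGroup p U) {b : Set (IrrCharacter G)} [Fintype (defl U b)]
    {f f' : G → ℂ} (hf : IsClassFunction G f) (hf' : IsClassFunction G f')
    (hfb : ∀ ξ : IrrCharacter G, ξ ∉ b → rg p f (ξ : G → ℂ) = 0) :
    ∑ θ : defl U b, rg p f (infl U θ : G → ℂ) * rg p (infl U θ : G → ℂ) f' =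
      (Nat.card U : ℂ)⁻¹ * rg p f f' := by
  have := Core.finite_irr (G := G ⧸ U)
  have := Fintype.ofFinite (IrrCharacter (G ⧸ U))
  have hU0 : (Nat.card U : ℂ) ≠ 0 := by exact_mod_cast Nat.card_pos.ne'
  have h1 := rg_eq_sum p (isClassFunction_push' (p := p) (U := U) hf)
    (isClassFunction_push' (p := p) (U := U) hf')
  rw [rg_push_push hU hp] at h1
  simp only [rg_push_infl hU hp] at h1
  rw [sum_eq_sum_coe (defl U b)] at h1
  · have h2 : (Nat.card U : ℂ) * rg p f f' = (Nat.card U : ℂ) * ((Nat.card U : ℂ) *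
        ∑ θ : defl U b, rg p f (infl U θ : G → ℂ) * rg p (infl U θ : G → ℂ) f') := by
      rw [h1, Finset.mul_sum, Finset.mul_sum]
      refine Finset.sum_congr rfl fun θ _ => ?_
      rw [map_mul, conj_rg, Complex.conj_natCast]
      ring
    rw [mul_left_cancel₀ hU0 h2]
    field_simp
  · intro θ hθ
    rw [hfb (infl U θ) hθ]
    ring

/-- The number of irreducible Brauer characters of a block does not change modulo a central
`p`-subgroup. -/
theorem blockRank_defl (hM : IsPModular p M) (hU : U ≤ Subgroup.center G) (hp : IsPGroup p U)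
    {b : Set (IrrCharacter G)} (hb : IsPBlock M b) :
    blockRank p (defl U b) = blockRank p b := by
  have := Fintype.ofFinite (G ⧸ U)
  have := Core.finite_irr (G := G)
  have := Core.finite_irr (G := G ⧸ U)
  have := Fintype.ofFinite (IrrCharacter (G ⧸ U))
  have : Fintype b := Fintype.ofFinite _
  have : Fintype (defl U b) := Fintype.ofFinite _
  have hU0 : (Nat.card U : ℂ) ≠ 0 := by exact_mod_cast Nat.card_pos.ne'
  have h1 := sum_rg_self hM (isPBlock_defl hM hU hp hb)
  have h2 := sum_rg_self hM hb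
  have key : ∑ ζ : defl U b, rg p ((ζ : IrrCharacter (G ⧸ U)) : G ⧸ U → ℂ)
      ((ζ : IrrCharacter (G ⧸ U)) : G ⧸ U → ℂ) =
      ∑ ζ : b, rg p ((ζ : IrrCharacter G) : G → ℂ) ((ζ : IrrCharacter G) : G → ℂ) := by
    calc ∑ θ : defl U b, rg p ((θ : IrrCharacter (G ⧸ U)) : G ⧸ U → ℂ)
          ((θ : IrrCharacter (G ⧸ U)) : G ⧸ U → ℂ)
        = ∑ θ : defl U b, ∑ ζ : b, (Nat.card U : ℂ) * (rg p (infl U θ : G → ℂ)
            ((ζ : IrrCharacter G) : G → ℂ) * rg p ((ζ : IrrCharacter G) : G → ℂ)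
              (infl U θ : G → ℂ)) := by
          refine Finset.sum_congr rfl fun θ _ => ?_
          rw [rg_infl hU hp, ← Finset.mul_sum, sum_rg_mul_rg hM hb θ.2]
      _ = ∑ ζ : b, (Nat.card U : ℂ) * ∑ θ : defl U b, rg p ((ζ : IrrCharacter G) : G → ℂ)
              (infl U θ : G → ℂ) * rg p (infl U θ : G → ℂ) ((ζ : IrrCharacter G) : G → ℂ) := by
          rw [Finset.sum_comm]
          refine Finset.sum_congr rfl fun ζ _ => ?_
          rw [Finset.mul_sum]
          refine Finset.sum_congr rfl fun θ _ => ?_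
          ring
      _ = _ := by
          refine Finset.sum_congr rfl fun ζ _ => ?_
          rw [sum_rg_push hU hp (Core.isIrr_isClassFunction ζ.1.2)
            (Core.isIrr_isClassFunction ζ.1.2) (fun ξ hξ => rg_eq_zero hM hb ζ.2 hξ)]
          field_simp
  rw [h1, h2] at key
  exact_mod_cast key

/-- A central element acts as a scalar. -/
theorem exists_scalar_center (ξ : IrrCharacter G) {z : G} (hz : z ∈ Subgroup.center G) :
    ∃ c : ℂ, ∀ g : G, (ξ : G → ℂ) (g * z) = c * (ξ : G → ℂ) g := by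
  obtain ⟨ξ, n, ρ, hρ, rfl⟩ := ξ
  obtain ⟨c, hc⟩ := Cfsg.Agent.Characters.Central.exists_smul_of_comm ρ hρ (ρ z) (fun g => by
    rw [← map_mul, ← map_mul, (Subgroup.mem_center_iff.1 hz g)])
  refine ⟨c, fun g => ?_⟩
  show LinearMap.trace ℂ _ (ρ (g * z)) = c * LinearMap.trace ℂ _ (ρ g)
  rw [map_mul, hc, mul_smul_comm, mul_one, map_smul, smul_eq_mul]

open scoped Classical in
/-- The sum of an irreducible character over a coset of a central subgroup. -/
theorem sum_coset (hU : U ≤ Subgroup.center G) [Fintype U] (ξ : IrrCharacter G) (g : G) :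
    ∑ z : U, (ξ : G → ℂ) (g * z) =
      if ∃ θ, infl U θ = ξ then (Nat.card U : ℂ) * (ξ : G → ℂ) g else 0 := by
  split_ifs with h
  · obtain ⟨θ, rfl⟩ := h
    have h1 : ∀ z : U, (infl U θ : G → ℂ) (g * z) = (infl U θ : G → ℂ) g := by
      intro z
      have h2 : (QuotientGroup.mk (g * (z : G)) : G ⧸ U) = QuotientGroup.mk g := by
        rw [QuotientGroup.eq]
        simp
      rw [infl_apply, infl_apply, h2]
    simp only [h1, Finset.sum_const, Finset.card_univ, nsmul_eq_mul, Nat.card_eq_fintype_card]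
  · have h1 : ∑ z : U, (ξ : G → ℂ) z = 0 := by
      by_contra hne
      apply h
      obtain ⟨θ, hθ⟩ := Blocks.Deflate.exists_deflation U (ξ : G → ℂ) ξ.2 hne
      exact ⟨θ, Subtype.ext hθ.symm⟩
    choose c hc using fun z : U => exists_scalar_center ξ (hU z.2)
    have h2 : ∀ z : U, (ξ : G → ℂ) (g * z) = ((ξ : G → ℂ) g / (ξ : G → ℂ) 1) * (ξ : G → ℂ) z := by
      intro z
      have e1 := hc z g
      have e2 := hc z 1
      rw [one_mul] at e2
      rw [e1, e2]
      have := apply_one_ne_zero ξ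
      field_simp
    simp only [h2, ← Finset.mul_sum, h1, mul_zero]

/-- The coefficients of the block idempotent of the quotient. -/
theorem blockCoeff_defl (hM : IsPModular p M) (hU : U ≤ Subgroup.center G) (hp : IsPGroup p U)
    {b : Set (IrrCharacter G)} (hb : IsPBlock M b) {g : G} (hg : ¬ p ∣ orderOf g) :
    blockCoeff (defl U b) (QuotientGroup.mk g) = blockCoeff b g := by
  classical
  have := Fintype.ofFinite (G ⧸ U)
  have := Fintype.ofFinite U
  have := Core.finite_irr (G := G)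
  have := Core.finite_irr (G := G ⧸ U)
  have := Fintype.ofFinite (IrrCharacter (G ⧸ U))
  have := Fintype.ofFinite (IrrCharacter G)
  have hU0 : (Nat.card U : ℂ) ≠ 0 := by exact_mod_cast Nat.card_pos.ne'
  have e1 : ∀ y, blockCoeff b y = (Nat.card G : ℂ)⁻¹ *
      ∑ χ : b, (χ : G → ℂ) 1 * conj ((χ : G → ℂ) y) := by
    intro y
    rw [Blocks.Basic.blockCoeff_def, ← finsum_set_coe_eq_finsum_mem,
      finsum_eq_sum_of_fintype]
  have e2 : ∀ y, blockCoeff (defl U b) y = (Nat.card (G ⧸ U) : ℂ)⁻¹ *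
      ∑ χ : defl U b, (χ : G ⧸ U → ℂ) 1 * conj ((χ : G ⧸ U → ℂ) y) := by
    intro y
    rw [Blocks.Basic.blockCoeff_def, ← finsum_set_coe_eq_finsum_mem,
      finsum_eq_sum_of_fintype]
  -- only `g` itself contributes to the sum over the coset
  have h1 : ∑ z : U, blockCoeff b (g * z) = blockCoeff b g := by
    rw [Finset.sum_eq_single 1]
    · simp
    · intro z _ hz
      have hsing : p ∣ orderOf (g * (z : G)) := by
        by_contra hcon
        apply hz
        have := eq_of_mk_eq hU hp hcon hg (by rw [QuotientGroup.eq]; simp)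
        exact Subtype.ext (by simpa using this)
      rw [Blocks.Basic.blockCoeff_def, S0907.result p M hM b hb 1 _ (by
        rw [orderOf_one]
        exact (Fact.out : p.Prime).one_lt.ne' ∘ Nat.dvd_one.1) hsing, mul_zero]
    · intro h
      exact absurd (Finset.mem_univ _) h
  rw [← h1, e2]
  simp only [e1]
  rw [← Finset.mul_sum, Finset.sum_comm, inv_card_eq]
  have h2 : ∀ χ : b, ∑ z : U, (χ : G → ℂ) 1 * conj ((χ : G → ℂ) (g * z)) =
      if ∃ θ, infl U θ = (χ : IrrCharacter G) then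
        (Nat.card U : ℂ) * ((χ : G → ℂ) 1 * conj ((χ : G → ℂ) g)) else 0 := by
    intro χ
    rw [← Finset.mul_sum, ← map_sum, sum_coset hU]
    split_ifs
    · rw [map_mul, Complex.conj_natCast]; ring
    · rw [map_zero, mul_zero]
  simp only [h2]
  rw [mul_comm (Nat.card U : ℂ), mul_assoc, Finset.mul_sum]
  congr 1
  rw [← Finset.sum_filter]
  refine Finset.sum_bij (fun θ _ => (⟨infl U (θ : IrrCharacter (G ⧸ U)), θ.2⟩ : b)) ?_ ?_ ?_ ?_
  · intro θ _
    rw [Finset.mem_filter]
    exact ⟨Finset.mem_univ _, θ.1, rfl⟩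
  · intro θ _ θ' _ h
    apply Subtype.ext
    exact infl_injective U (congrArg Subtype.val h)
  · intro χ hχ
    rw [Finset.mem_filter] at hχ
    obtain ⟨-, θ, hθ⟩ := hχ
    exact ⟨⟨θ, by rw [mem_defl, hθ]; exact χ.2⟩, Finset.mem_univ _, Subtype.ext hθ⟩
  · intro θ _
    rfl

/-- The defect of the block of the quotient. -/
theorem blockDefect_defl (hM : IsPModular p M) (hU : U ≤ Subgroup.center G) {t : ℕ}
    (ht : Nat.card U = p ^ t) {b : Set (IrrCharacter G)} (hb : IsPBlock M b) :
    blockDefect p (defl U b) + t = blockDefect p b := by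
  classical
  have hp : IsPGroup p U := IsPGroup.of_card ht
  have hpr : p.Prime := Fact.out
  have hvan : ∀ {K : Type _} [Group K] [Finite K] {B : Set (IrrCharacter K)}, IsPBlock M B →
      ∀ y : K, p ∣ orderOf y → ∑ᶠ χ ∈ B, (χ : K → ℂ) 1 * conj ((χ : K → ℂ) y) = 0 := by
    intro K _ _ B hB y hy
    exact S0907.result p M hM B hB 1 y (by
        rw [orderOf_one]
        exact hpr.one_lt.ne' ∘ Nat.dvd_one.1) hy
  have hcardC : ∀ {K : Type _} [Group K] [Finite K] {B : Set (IrrCharacter K)} {g : K},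
      IsPBlock M B → IsDefectClass M B g → 
      (Nat.card (Subgroup.centralizer ({g} : Set K))).factorization p = blockDefect p B := by
    intro K _ _ B g hB hg
    obtain ⟨P⟩ : Nonempty (Sylow p (Subgroup.centralizer ({g} : Set K))) := inferInstance
    have h1 := Blocks.DefectCard.card_defectGroup hM B hB (hvan hB) _ ⟨g, hg, P, rfl⟩
    rw [Nat.card_congr (Subgroup.equivMapOfInjective _ _
      (Subgroup.subtype_injective _)).toEquiv.symm, P.card_eq_multiplicity] at h1
    exact Nat.pow_right_injective hpr.two_le h1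
  have := isPrime_of_isPModular hM
  obtain ⟨D, g, hg, hD⟩ := H644.exists_isDefectGroup hM hb
  have hgreg : ¬ p ∣ orderOf g := by
    intro h
    apply hg.2.1
    rw [Blocks.Basic.blockCoeff_def, hvan hb g h, mul_zero]
    have := isPrime_of_isPModular hM
    exact memLocalIdeal_zero
  have hg' : IsDefectClass M (defl U b) (QuotientGroup.mk g : G ⧸ U) := by
    refine ⟨?_, ?_, ?_⟩
    · rw [blockCoeff_defl hM hU hp hb hgreg]; exact hg.1
    · rw [blockCoeff_defl hM hU hp hb hgreg]; exact hg.2.1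
    · intro θ hθ
      rw [← centralChar_infl hU hp θ hgreg]
      exact hg.2.2 _ hθ
  rw [← hcardC hb hg, ← hcardC (isPBlock_defl hM hU hp hb) hg']
  have h1 := (Subgroup.centralizer ({g} : Set G)).card_mul_index
  have h2 := (Subgroup.centralizer ({(QuotientGroup.mk g : G ⧸ U)} : Set (G ⧸ U))).card_mul_index
  rw [index_centralizer_mk hU hp hgreg] at h2
  rw [U.card_eq_card_quotient_mul_card_subgroup, ← h2, ht] at h1
  have h3 : Nat.card (Subgroup.centralizer ({g} : Set G)) =
      Nat.card (Subgroup.centralizer ({(QuotientGroup.mk g : G ⧸ U)} : Set (G ⧸ U))) * p ^ t := by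
    have h4 : (Subgroup.centralizer ({g} : Set G)).index ≠ 0 := Subgroup.index_ne_zero_of_finite
    apply Nat.eq_of_mul_eq_mul_right (Nat.pos_of_ne_zero h4)
    rw [h1]
    ring
  rw [h3, Nat.factorization_mul Nat.card_pos.ne' (pow_ne_zero _ hpr.ne_zero),
    hpr.factorization_pow]
  simp

end central

end Cfsg.Agent.H644.CentralQuot
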