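import Cfsg.Agent.H644.Center
set_option linter.all false

/-!
# The Brauer map on group algebras over the residue field, and Brauer pairs

* `res L : K[G] →ₗ K[L]` restricts the coefficients to the subgroup `L`; `emb L : K[L] →ₐ K[G]`;
* `IsInv S x`: `x ∈ K[G]` is fixed under conjugation by the subgroup `S`;
* `cj x : K[G] ≃ₐ K[G]`: conjugation by `x`;
* `br P = res C_G(P)`: the Brauer map, multiplicative on `P`-invariant elements (`br_mul`);
* `irrMap φ`, `cjE`, transport of irreducible characters, blocks and idempotents along group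
  isomorphisms; `conjBlock_eq_image`;
* the dictionary: `isBrauerPairOf_iff`, `isNormalSubpair_iff`, `stabilizesBlock_iff`.
-/

set_option autoImplicit false
set_option linter.unusedSectionVars false

open Cfsg

namespace Cfsg.Agent.H644

open Cfsg.Agent.Blocks.Local Cfsg.Agent.Blocks.ConvCentral Cfsg.Agent.Blocks.MinMax
open Cfsg.Agent.Blocks.Basic (isPBlock_nonempty isPBlock_mem_iff isPBlock_eq_of_mem
  isPBlock_eq_blockOf isPBlock_sameBlock isPBlock_mem_of_sameBlock isPBlock_blockOf
  mem_blockOf_self)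

section Alg

variable {K : Type*} [Field K] {G : Type*} [Group G] [Finite G]

/-- Restriction of the coefficients to a subgroup. -/
noncomputable def res (L : Subgroup G) : MonoidAlgebra K G →ₗ[K] MonoidAlgebra K L where
  toFun x := mkA fun g : L => x.coeff (g : G)
  map_add' x y := ext_coeff fun g => by
    rw [coeff_mkA, MonoidAlgebra.coeff_add, MonoidAlgebra.coeff_add, Finsupp.add_apply,
      Finsupp.add_apply, coeff_mkA, coeff_mkA]
  map_smul' c x := ext_coeff fun g => by
    rw [coeff_mkA, MonoidAlgebra.coeff_smul, MonoidAlgebra.coeff_smul, Finsupp.smul_apply,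
      Finsupp.smul_apply, coeff_mkA, RingHom.id_apply]

@[simp]
theorem coeff_res (L : Subgroup G) (x : MonoidAlgebra K G) (g : L) :
    (res L x).coeff g = x.coeff (g : G) := rfl

/-- The embedding of the group algebra of a subgroup. -/
noncomputable def emb (L : Subgroup G) : MonoidAlgebra K L →ₐ[K] MonoidAlgebra K G :=
  MonoidAlgebra.mapDomainAlgHom K K L.subtype

theorem coeff_emb_of_mem {L : Subgroup G} (x : MonoidAlgebra K L) {g : G} (hg : g ∈ L) :
    (emb L x).coeff g = x.coeff ⟨g, hg⟩ := by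
  change (Finsupp.mapDomain L.subtype x.coeff) g = _
  exact Finsupp.mapDomain_apply (Subgroup.subtype_injective L) x.coeff ⟨g, hg⟩

theorem coeff_emb_coe {L : Subgroup G} (x : MonoidAlgebra K L) (g : L) :
    (emb L x).coeff (g : G) = x.coeff g := coeff_emb_of_mem x g.2

theorem coeff_emb_of_notMem {L : Subgroup G} (x : MonoidAlgebra K L) {g : G} (hg : g ∉ L) :
    (emb L x).coeff g = 0 := by
  change (Finsupp.mapDomain L.subtype x.coeff) g = _
  refine Finsupp.mapDomain_of_notMem_range x.coeff g ?_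
  rintro ⟨h, rfl⟩
  exact hg h.2

@[simp]
theorem res_emb (L : Subgroup G) (x : MonoidAlgebra K L) : res L (emb L x) = x :=
  ext_coeff fun g => by rw [coeff_res, coeff_emb_coe]

theorem emb_injective (L : Subgroup G) :
    Function.Injective (emb L : MonoidAlgebra K L →ₐ[K] MonoidAlgebra K G) := fun x y h => by
  rw [← res_emb L x, h, res_emb]

theorem res_one (L : Subgroup G) : res L (1 : MonoidAlgebra K G) = 1 := by
  rw [← map_one (emb L), res_emb]

theorem res_emb_res {L L' : Subgroup G} (h : L ≤ L') (x : MonoidAlgebra K G) :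
    res L (emb L' (res L' x)) = res L x :=
  ext_coeff fun g => by rw [coeff_res, coeff_emb_of_mem _ (h g.2), coeff_res, coeff_res]

/-- `x` is fixed under conjugation by the elements of `S`. -/
def IsInv (S : Subgroup G) (x : MonoidAlgebra K G) : Prop :=
  ∀ u ∈ S, ∀ g : G, x.coeff (u * g * u⁻¹) = x.coeff g

theorem isInv_mono {S T : Subgroup G} (h : S ≤ T) {x : MonoidAlgebra K G} (hx : IsInv T x) :
    IsInv S x := fun u hu => hx u (h hu)

theorem isInv_of_isCls {x : MonoidAlgebra K G} (hx : IsCls x) (S : Subgroup G) : IsInv S x :=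
  fun u _ g => hx g u

theorem isCls_iff_isInv_top {x : MonoidAlgebra K G} : IsCls x ↔ IsInv ⊤ x :=
  ⟨fun h => isInv_of_isCls h _, fun h g u => h u (Subgroup.mem_top u) g⟩

theorem isInv_add {S : Subgroup G} {x y : MonoidAlgebra K G} (hx : IsInv S x) (hy : IsInv S y) :
    IsInv S (x + y) := by
  intro u hu g
  simp only [MonoidAlgebra.coeff_add, Finsupp.add_apply, hx u hu g, hy u hu g]

theorem isInv_sub {S : Subgroup G} {x y : MonoidAlgebra K G} (hx : IsInv S x) (hy : IsInv S y) :
    IsInv S (x - y) := by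
  intro u hu g
  simp only [MonoidAlgebra.coeff_sub, Finsupp.sub_apply, hx u hu g, hy u hu g]

theorem isInv_smul {S : Subgroup G} {x : MonoidAlgebra K G} (hx : IsInv S x) (c : K) :
    IsInv S (c • x) := by
  intro u hu g
  simp only [MonoidAlgebra.coeff_smul, Finsupp.smul_apply, hx u hu g]

theorem isInv_one (S : Subgroup G) : IsInv S (1 : MonoidAlgebra K G) :=
  isInv_of_isCls isCls_one S

theorem isInv_zero (S : Subgroup G) : IsInv S (0 : MonoidAlgebra K G) :=
  isInv_of_isCls isCls_zero S

theorem isInv_sum {S : Subgroup G} {ι : Type*} {s : Finset ι} {f : ι → MonoidAlgebra K G}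
    (h : ∀ i ∈ s, IsInv S (f i)) : IsInv S (∑ i ∈ s, f i) := by
  classical
  induction s using Finset.induction_on with
  | empty => simpa using isInv_zero S
  | insert a s ha ih =>
    rw [Finset.sum_insert ha]
    exact isInv_add (h a (Finset.mem_insert_self _ _))
      (ih fun i hi => h i (Finset.mem_insert_of_mem hi))

theorem isInv_mul {S : Subgroup G} {x y : MonoidAlgebra K G} (hx : IsInv S x) (hy : IsInv S y) :
    IsInv S (x * y) := by
  have := Fintype.ofFinite G
  intro u hu g
  rw [coeff_mul_eq_sum, coeff_mul_eq_sum, ← (MulAut.conj u).toEquiv.sum_comp]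
  refine Finset.sum_congr rfl fun a _ => ?_
  simp only [MulEquiv.toEquiv_eq_coe, EquivLike.coe_coe, MulAut.conj_apply]
  rw [hx u hu a]
  have : (u * a * u⁻¹)⁻¹ * (u * g * u⁻¹) = u * (a⁻¹ * g) * u⁻¹ := by group
  rw [this, hy u hu]

/-- The restriction of an `L`-invariant element to `L` is central. -/
theorem isCls_res {L : Subgroup G} {x : MonoidAlgebra K G} (hx : IsInv L x) : IsCls (res L x) := by
  intro g h
  rw [coeff_res, coeff_res]
  push_cast
  exact hx h h.2 g

/-- A central element of `K[L]` is `L`-invariant in `K[G]`. -/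
theorem isInv_emb {L : Subgroup G} {x : MonoidAlgebra K L} (hx : IsCls x) : IsInv L (emb L x) := by
  intro u hu g
  by_cases hg : g ∈ L
  · have h1 : u * g * u⁻¹ ∈ L := L.mul_mem (L.mul_mem hu hg) (L.inv_mem hu)
    rw [coeff_emb_of_mem x h1, coeff_emb_of_mem x hg]
    exact hx ⟨g, hg⟩ ⟨u, hu⟩
  · have h1 : u * g * u⁻¹ ∉ L := by
      intro h
      apply hg
      have := L.mul_mem (L.mul_mem (L.inv_mem hu) h) hu
      simpa [mul_assoc] using this
    rw [coeff_emb_of_notMem x h1, coeff_emb_of_notMem x hg]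

/-- Conjugation by `x` on the group algebra. -/
noncomputable def cj (x : G) : MonoidAlgebra K G ≃ₐ[K] MonoidAlgebra K G :=
  AlgEquiv.ofAlgHom (MonoidAlgebra.mapDomainAlgHom K K (MulAut.conj x).toMonoidHom)
    (MonoidAlgebra.mapDomainAlgHom K K (MulAut.conj x⁻¹).toMonoidHom)
    (by ext g; simp [mul_assoc]) (by ext g; simp [mul_assoc])

theorem coeff_cj (x : G) (a : MonoidAlgebra K G) (g : G) :
    (cj x a).coeff g = a.coeff (x⁻¹ * g * x) := by
  change (Finsupp.mapDomain (MulAut.conj x) a.coeff) g = _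
  have h := Finsupp.mapDomain_apply (f := (MulAut.conj x)) (MulAut.conj x).injective a.coeff
    (x⁻¹ * g * x)
  rw [← h]
  congr 1
  simp [mul_assoc]

theorem isInv_iff_cj {S : Subgroup G} {x : MonoidAlgebra K G} :
    IsInv S x ↔ ∀ u ∈ S, cj u x = x := by
  constructor
  · intro h u hu
    refine ext_coeff fun g => ?_
    rw [coeff_cj, ← h u hu (u⁻¹ * g * u)]
    congr 1
    group
  · intro h u hu g
    have h1 := congrArg (fun z => z.coeff (u * g * u⁻¹)) (h u hu)
    rw [coeff_cj] at h1
    rw [← h1]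
    congr 1
    group

theorem cj_mul_apply (x y : G) (a : MonoidAlgebra K G) : cj (x * y) a = cj x (cj y a) := by
  refine ext_coeff fun g => ?_
  rw [coeff_cj, coeff_cj, coeff_cj]
  congr 1
  group

theorem cj_one_apply (a : MonoidAlgebra K G) : cj (1 : G) a = a := by
  refine ext_coeff fun g => ?_
  rw [coeff_cj]
  simp

theorem cj_inv_cj (x : G) (a : MonoidAlgebra K G) : cj x⁻¹ (cj x a) = a := by
  rw [← cj_mul_apply, inv_mul_cancel, cj_one_apply]

theorem cj_cj_inv (x : G) (a : MonoidAlgebra K G) : cj x (cj x⁻¹ a) = a := by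
  rw [← cj_mul_apply, mul_inv_cancel, cj_one_apply]

theorem cj_of_isCls {a : MonoidAlgebra K G} (ha : IsCls a) (x : G) : cj x a = a :=
  isInv_iff_cj.1 (isInv_of_isCls ha ⊤) x (Subgroup.mem_top x)

/-- The Brauer map: restriction of the coefficients to the centralizer of `P`. -/
noncomputable def br (P : Subgroup G) :
    MonoidAlgebra K G →ₗ[K] MonoidAlgebra K (Subgroup.centralizer (P : Set G)) :=
  res (Subgroup.centralizer (P : Set G))

@[simp]
theorem coeff_br (P : Subgroup G) (x : MonoidAlgebra K G)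
    (g : Subgroup.centralizer (P : Set G)) : (br P x).coeff g = x.coeff (g : G) := rfl

theorem br_one (P : Subgroup G) : br P (1 : MonoidAlgebra K G) = 1 := res_one _

/-- The Brauer map is multiplicative on invariant elements. -/
theorem br_mul {p : ℕ} [CharP K p] [Fact p.Prime] {P : Subgroup G} (hP : IsPGroup p P)
    {x y : MonoidAlgebra K G} (hx : IsInv P x) (hy : IsInv P y) :
    br P (x * y) = br P x * br P y := by
  classical
  have := Fintype.ofFinite G
  refine ext_coeff fun g => ?_
  rw [coeff_br, coeff_mul_eq_sum, coeff_mul_eq_sum]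
  obtain ⟨a, ha⟩ := Cfsg.Agent.Blocks.OrbitSum.sum_eq_sum_centralizer_add_smul P hP
    (fun z => x.coeff z * y.coeff (z⁻¹ * g)) (by
      intro u hu z
      have h1 : (u * z * u⁻¹)⁻¹ * (g : G) = u * (z⁻¹ * g) * u⁻¹ := by
        have h2 : u * (g : G) = g * u := (Subgroup.mem_centralizer_iff.1 g.2) u hu
        calc (u * z * u⁻¹)⁻¹ * (g : G) = u * z⁻¹ * (u⁻¹ * g) := by group
          _ = u * z⁻¹ * (g * u⁻¹) := by
            congr 1
            rw [inv_mul_eq_iff_eq_mul, ← mul_assoc, h2, mul_inv_cancel_right]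
          _ = u * (z⁻¹ * g) * u⁻¹ := by group
      rw [h1, hx u hu, hy u hu])
  rw [ha, nsmul_eq_mul, CharP.cast_eq_zero, zero_mul, add_zero]
  symm
  refine Finset.sum_bij (fun (z : Subgroup.centralizer (P : Set G)) _ => (z : G)) ?_ ?_ ?_ ?_
  · intro z _
    simp
  · intro z _ z' _ h
    exact Subtype.ext h
  · intro z hz
    have hz' : z ∈ Subgroup.centralizer (P : Set G) := by simpa using hz
    exact ⟨⟨z, hz'⟩, Finset.mem_univ _, rfl⟩
  · intro z _
    rfl

theorem centralizer_mono {Q P : Subgroup G} (h : Q ≤ P) :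
    Subgroup.centralizer (P : Set G) ≤ Subgroup.centralizer (Q : Set G) :=
  Subgroup.centralizer_le h

/-- Transitivity of the Brauer map. -/
theorem br_emb_br {Q P : Subgroup G} (h : Q ≤ P) (x : MonoidAlgebra K G) :
    br P (emb _ (br Q x)) = br P x := res_emb_res (centralizer_mono h) x

/-- The Brauer map at `P` ignores conjugation by elements of `P`. -/
theorem br_cj {P : Subgroup G} {u : G} (hu : u ∈ P) (x : MonoidAlgebra K G) :
    br P (cj u x) = br P x := by
  refine ext_coeff fun g => ?_
  rw [coeff_br, coeff_br, coeff_cj]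
  congr 1
  have h2 : u * (g : G) = g * u := (Subgroup.mem_centralizer_iff.1 g.2) u hu
  rw [mul_assoc, ← h2, inv_mul_cancel_left]

theorem isCls_br {P : Subgroup G} {x : MonoidAlgebra K G}
    (hx : IsInv (Subgroup.centralizer (P : Set G)) x) : IsCls (br P x) := isCls_res hx

theorem isCls_br_of_isCls {P : Subgroup G} {x : MonoidAlgebra K G} (hx : IsCls x) :
    IsCls (br P x) := isCls_br (isInv_of_isCls hx _)

/-- For `Q ≤ P` and a central element `x` of `K[C_G(Q)]`, its image under the Brauer map at `P` is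
central. -/
theorem isCls_br_emb {Q P : Subgroup G} (h : Q ≤ P)
    {x : MonoidAlgebra K (Subgroup.centralizer (Q : Set G))} (hx : IsCls x) :
    IsCls (br P (emb _ x)) := isCls_br (isInv_mono (centralizer_mono h) (isInv_emb hx))

end Alg

/-! ### Transport along isomorphisms -/

section Transport

variable {M : Ideal AlgInt} {H : Type*} [Group H] {H' : Type*} [Group H']

/-- Transport of irreducible characters along an isomorphism. -/
noncomputable def irrMap (φ : H ≃* H') : IrrCharacter H ≃ IrrCharacter H' where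
  toFun χ := ⟨fun h => (χ : H → ℂ) (φ.symm h),
    Cfsg.Agent.Characters.Core.isIrr_comp φ.symm.toMonoidHom φ.symm.surjective χ.2⟩
  invFun χ := ⟨fun h => (χ : H' → ℂ) (φ h),
    Cfsg.Agent.Characters.Core.isIrr_comp φ.toMonoidHom φ.surjective χ.2⟩
  left_inv χ := Subtype.ext (by funext h; simp)
  right_inv χ := Subtype.ext (by funext h; simp)

theorem irrMap_apply (φ : H ≃* H') (χ : IrrCharacter H) (h : H') :
    (irrMap φ χ : H' → ℂ) h = (χ : H → ℂ) (φ.symm h) := rfl

theorem irrMap_apply_map (φ : H ≃* H') (χ : IrrCharacter H) (h : H) :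
    (irrMap φ χ : H' → ℂ) (φ h) = (χ : H → ℂ) h := by
  rw [irrMap_apply, MulEquiv.symm_apply_apply]

theorem centralChar_irrMap (φ : H ≃* H') (χ : IrrCharacter H) (h : H') :
    centralChar (irrMap φ χ : H' → ℂ) h = centralChar (χ : H → ℂ) (φ.symm h) :=
  Cfsg.Agent.Blocks.Covering.centralChar_comp_equiv φ.symm (χ : H → ℂ) h

theorem sameBlock_irrMap (φ : H ≃* H') (χ ψ : IrrCharacter H) :
    SameBlock M (irrMap φ χ : H' → ℂ) (irrMap φ ψ : H' → ℂ) ↔
      SameBlock M (χ : H → ℂ) (ψ : H → ℂ) := by
  constructor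
  · intro h g
    have h1 := h (φ g)
    rw [centralChar_irrMap, centralChar_irrMap, MulEquiv.symm_apply_apply] at h1
    exact h1
  · intro h g
    rw [centralChar_irrMap, centralChar_irrMap]
    exact h _

theorem irrMap_image_blockOf (φ : H ≃* H') (χ : IrrCharacter H) :
    irrMap φ '' blockOf M (χ : H → ℂ) = blockOf M (irrMap φ χ : H' → ℂ) := by
  ext ψ
  constructor
  · rintro ⟨ψ', h, rfl⟩
    exact (sameBlock_irrMap φ χ ψ').2 h
  · intro h
    refine ⟨(irrMap φ).symm ψ, ?_, by simp⟩
    have h' : SameBlock M (irrMap φ χ : H' → ℂ) (irrMap φ ((irrMap φ).symm ψ) : H' → ℂ) := by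
      rw [Equiv.apply_symm_apply]
      exact h
    exact (sameBlock_irrMap φ χ _).1 h'

theorem isPBlock_irrMap {φ : H ≃* H'} {B : Set (IrrCharacter H)} (hB : IsPBlock M B) :
    IsPBlock M (irrMap φ '' B) := by
  obtain ⟨χ, rfl⟩ := hB
  exact ⟨irrMap φ χ, irrMap_image_blockOf φ χ⟩

theorem blockCoeff_irrMap (φ : H ≃* H') (S : Set (IrrCharacter H)) (h : H) :
    blockCoeff (irrMap φ '' S) (φ h) = blockCoeff S h := by
  rw [Cfsg.Agent.Blocks.Basic.blockCoeff_def, Cfsg.Agent.Blocks.Basic.blockCoeff_def,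
    Nat.card_congr φ.toEquiv,
    finsum_mem_image (fun x _ y _ hxy => (irrMap φ).injective hxy)]
  congr 1
  refine finsum_mem_congr rfl fun χ _ => ?_
  rw [irrMap_apply_map, ← map_one φ, irrMap_apply_map]

variable [M.IsPrime] [Finite H] [Finite H']

theorem coeff_idem_irrMap (φ : H ≃* H') (S : Set (IrrCharacter H)) (h : H) :
    (idem M (irrMap φ '' S)).coeff (φ h) = (idem M S).coeff h := by
  rw [coeff_idem, coeff_idem, blockCoeff_irrMap]

/-- Central characters and isomorphisms: if the coefficients of `x'` at `φ h` are those of `x` at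
`h`, then the central characters agree. -/
theorem lam_irrMap (φ : H ≃* H') (χ : IrrCharacter H) {x : MonoidAlgebra (ResField M) H}
    {x' : MonoidAlgebra (ResField M) H'} (hx : IsCls x)
    (h : ∀ g, x'.coeff (φ g) = x.coeff g) :
    lam M (irrMap φ χ : H' → ℂ) x' = lam M (χ : H → ℂ) x := by
  have := Fintype.ofFinite H
  have := Fintype.ofFinite H'
  obtain ⟨f, hf, hfR, rfl⟩ := exists_toK hx
  have h1 : x' = toK M (fun g => f (φ.symm g)) := by
    refine ext_coeff fun g => ?_
    have := h (φ.symm g)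
    rw [MulEquiv.apply_symm_apply] at this
    rw [this, coeff_toK, coeff_toK]
  have hf' : IsClassFunction H' (fun g => f (φ.symm g)) := by
    intro g k
    simp only [map_mul, map_inv]
    exact hf _ _
  rw [h1, lam_toK (irrMap φ χ).2 hf' (fun g => hfR _), lam_toK χ.2 hf hfR, omega_def, omega_def,
    lin_def, lin_def]
  congr 2
  · rw [← Equiv.sum_comp φ.toEquiv]
    refine Finset.sum_congr rfl fun g _ => ?_
    change f (φ.symm (φ g)) * (irrMap φ χ : H' → ℂ) (φ g) = _
    rw [irrMap_apply_map, MulEquiv.symm_apply_apply]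
  · rw [irrMap_apply, map_one]

end Transport

section Conj

variable {M : Ideal AlgInt} {G : Type*} [Group G]

/-- Conjugation by `x` as an isomorphism from `L` to `L' = x L x⁻¹`. -/
def cjE (x : G) (L L' : Subgroup G) (h : ∀ g, g ∈ L ↔ x * g * x⁻¹ ∈ L') : L ≃* L' where
  toFun g := ⟨x * g * x⁻¹, (h g).1 g.2⟩
  invFun g := ⟨x⁻¹ * g * x, (h _).2 (by simpa [mul_assoc] using g.2)⟩
  left_inv g := Subtype.ext (by simp [mul_assoc])
  right_inv g := Subtype.ext (by simp [mul_assoc])
  map_mul' g g' := Subtype.ext (by simp [mul_assoc])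

theorem coe_cjE (x : G) (L L' : Subgroup G) (h : ∀ g, g ∈ L ↔ x * g * x⁻¹ ∈ L') (g : L) :
    ((cjE x L L' h g : L') : G) = x * g * x⁻¹ := rfl

theorem mem_centralizer_map_conj (Q : Subgroup G) (x : G) (g : G) :
    g ∈ Subgroup.centralizer (Q : Set G) ↔
      x * g * x⁻¹ ∈ Subgroup.centralizer ((Q.map (MulAut.conj x).toMonoidHom : Subgroup G) :
        Set G) := by
  rw [Subgroup.mem_centralizer_iff, Subgroup.mem_centralizer_iff]
  constructor
  · rintro h _ ⟨q, hq, rfl⟩
    change (x * q * x⁻¹) * (x * g * x⁻¹) = (x * g * x⁻¹) * (x * q * x⁻¹)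
    have := h q hq
    calc (x * q * x⁻¹) * (x * g * x⁻¹) = x * (q * g) * x⁻¹ := by group
      _ = x * (g * q) * x⁻¹ := by rw [this]
      _ = _ := by group
  · intro h q hq
    have h1 := h (x * q * x⁻¹) ⟨q, hq, rfl⟩
    calc q * g = x⁻¹ * ((x * q * x⁻¹) * (x * g * x⁻¹)) * x := by group
      _ = x⁻¹ * ((x * g * x⁻¹) * (x * q * x⁻¹)) * x := by rw [h1]
      _ = g * q := by group

theorem mem_iff_conj_mem_of_mem_normalizer {L : Subgroup G} {x : G}
    (hx : x ∈ Subgroup.normalizer (L : Set G)) (g : G) : g ∈ L ↔ x * g * x⁻¹ ∈ L :=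
  Subgroup.mem_normalizer_iff.1 hx g

/-- The conjugate block as the image of the block under transport of characters. -/
theorem conjBlock_eq_image (Q : Subgroup G) (x : G)
    (f : Set (IrrCharacter (Subgroup.centralizer (Q : Set G)))) :
    conjBlock Q x f = irrMap (cjE x _ _ (mem_centralizer_map_conj Q x)) '' f := by
  ext ξ'
  constructor
  · rintro ⟨ξ, hξ, h⟩
    refine ⟨ξ, hξ, Subtype.ext ?_⟩
    funext c'
    obtain ⟨c, rfl⟩ := (cjE x _ _ (mem_centralizer_map_conj Q x)).surjective c'
    rw [irrMap_apply_map]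
    exact (h c _ rfl).symm
  · rintro ⟨ξ, hξ, rfl⟩
    refine ⟨ξ, hξ, fun c c' hc => ?_⟩
    have : c' = cjE x _ _ (mem_centralizer_map_conj Q x) c := Subtype.ext hc
    rw [this, irrMap_apply_map]

theorem mem_normalizer_centralizer {Q : Subgroup G} {x : G}
    (hx : x ∈ Subgroup.normalizer (Q : Set G)) :
    x ∈ Subgroup.normalizer ((Subgroup.centralizer (Q : Set G) : Subgroup G) : Set G) := by
  have h1 : Q.map (MulAut.conj x).toMonoidHom = Q := by
    ext g
    rw [Subgroup.mem_map_equiv, MulAut.conj_symm_apply,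
      Subgroup.mem_normalizer_iff.1 hx (x⁻¹ * g * x)]
    simp [mul_assoc]
  rw [Subgroup.mem_normalizer_iff]
  intro g
  have h2 := mem_centralizer_map_conj Q x g
  rw [h1] at h2
  exact h2

variable [M.IsPrime] [Finite G]

/-- The idempotent of the conjugate is the conjugate of the idempotent. -/
theorem emb_idem_irrMap (x : G) (L L' : Subgroup G) (h : ∀ g, g ∈ L ↔ x * g * x⁻¹ ∈ L')
    (S : Set (IrrCharacter L)) :
    emb L' (idem M (irrMap (cjE x L L' h) '' S)) = cj x (emb L (idem M S)) := by
  refine ext_coeff fun g => ?_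
  rw [coeff_cj]
  by_cases hg : g ∈ L'
  · have hg' : x⁻¹ * g * x ∈ L := (h _).2 (by simpa [mul_assoc] using hg)
    rw [coeff_emb_of_mem _ hg, coeff_emb_of_mem _ hg',
      ← coeff_idem_irrMap (cjE x L L' h)]
    congr 1
    exact Subtype.ext (by rw [coe_cjE]; simp [mul_assoc])
  · have hg' : x⁻¹ * g * x ∉ L := by
      intro h'
      apply hg
      have := (h _).1 h'
      simpa [mul_assoc] using this
    rw [coeff_emb_of_notMem _ hg, coeff_emb_of_notMem _ hg']

theorem emb_idem_conjBlock (Q : Subgroup G) (x : G)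
    (f : Set (IrrCharacter (Subgroup.centralizer (Q : Set G)))) :
    emb _ (idem M (conjBlock Q x f)) = cj x (emb _ (idem M f)) := by
  rw [conjBlock_eq_image, emb_idem_irrMap]

variable {p : ℕ}

/-- `g` stabilizes the block `e` of `L` iff `g` normalizes `L` and fixes the idempotent of `e`. -/
theorem stabilizesBlock_iff (hM : IsPModular p M) {L : Subgroup G} {e : Set (IrrCharacter L)}
    (he : IsPBlock M e) (x : G) :
    StabilizesBlock L e x ↔
      x ∈ Subgroup.normalizer (L : Set G) ∧ cj x (emb L (idem M e)) = emb L (idem M e) := by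
  have hfin : Finite (IrrCharacter L) := Cfsg.Agent.Characters.Core.finite_irr
  have key : ∀ hx : x ∈ Subgroup.normalizer (L : Set G), (∀ χ ∈ e, ∃ χ' ∈ e,
      IsConjCharOf L x (χ : L → ℂ) (χ' : L → ℂ)) ↔
      irrMap (cjE x L L (mem_iff_conj_mem_of_mem_normalizer hx)) '' e = e := by
    intro hx
    constructor
    · intro h
      have h1 : irrMap (cjE x L L (mem_iff_conj_mem_of_mem_normalizer hx)) '' e ⊆ e := by
        rintro _ ⟨χ, hχ, rfl⟩
        obtain ⟨χ', hχ', h2⟩ := h χ hχ
        have : irrMap (cjE x L L (mem_iff_conj_mem_of_mem_normalizer hx)) χ = χ' := by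
          apply Subtype.ext
          funext k'
          obtain ⟨k, rfl⟩ := (cjE x L L (mem_iff_conj_mem_of_mem_normalizer hx)).surjective k'
          rw [irrMap_apply_map]
          exact (h2 k _ rfl).symm
        rw [this]
        exact hχ'
      refine Set.eq_of_subset_of_ncard_le h1 ?_ (Set.toFinite e)
      rw [Set.ncard_image_of_injective _ (Equiv.injective _)]
    · intro h χ hχ
      refine ⟨irrMap (cjE x L L (mem_iff_conj_mem_of_mem_normalizer hx)) χ, ?_, ?_⟩
      · rw [← h]
        exact ⟨χ, hχ, rfl⟩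
      · intro k k' hk
        have : k' = cjE x L L (mem_iff_conj_mem_of_mem_normalizer hx) k := Subtype.ext hk
        rw [this, irrMap_apply_map]
  constructor
  · rintro ⟨hx, h⟩
    refine ⟨hx, ?_⟩
    rw [← emb_idem_irrMap x L L (mem_iff_conj_mem_of_mem_normalizer hx), (key hx).1 h]
  · rintro ⟨hx, h⟩
    refine ⟨hx, (key hx).2 ?_⟩
    rw [← emb_idem_irrMap x L L (mem_iff_conj_mem_of_mem_normalizer hx)] at h
    exact idem_injective hM (isUnion_of_isPBlock (isPBlock_irrMap he)) (isUnion_of_isPBlock he)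
      (emb_injective L h)

/-- All elements of `P ≤ N_G(Q)` stabilize the block `f` of `C_G(Q)` iff its idempotent is
`P`-invariant. -/
theorem forall_stabilizesBlock_iff (hM : IsPModular p M) {P Q : Subgroup G}
    (hPN : P ≤ Subgroup.normalizer (Q : Set G))
    {f : Set (IrrCharacter (Subgroup.centralizer (Q : Set G)))} (hf : IsPBlock M f) :
    (∀ x ∈ P, StabilizesBlock (Subgroup.centralizer (Q : Set G)) f x) ↔
      IsInv P (emb _ (idem M f)) := by
  rw [isInv_iff_cj]
  constructor
  · intro h x hx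
    exact ((stabilizesBlock_iff hM hf x).1 (h x hx)).2
  · intro h x hx
    exact (stabilizesBlock_iff hM hf x).2 ⟨mem_normalizer_centralizer (hPN hx), h x hx⟩

end Conj

/-! ### The dictionary -/

section Dictionary

variable {p : ℕ} {M : Ideal AlgInt} [M.IsPrime] {G : Type*} [Group G] [Finite G]

theorem redC_brauerOmega (P : Subgroup G) {β : G → ℂ} (hβ : ∀ g, MemLocalRing M (β g))
    (hcl : IsClassFunction (Subgroup.centralizer (P : Set G))
      (fun x : Subgroup.centralizer (P : Set G) => β (x : G)))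
    (ξ : IrrCharacter (Subgroup.centralizer (P : Set G))) :
    MemLocalRing M (brauerOmega P β (ξ : Subgroup.centralizer (P : Set G) → ℂ)) ∧
      redC M (brauerOmega P β (ξ : Subgroup.centralizer (P : Set G) → ℂ)) =
        lam M (ξ : Subgroup.centralizer (P : Set G) → ℂ) (br P (toK M β)) := by
  classical
  have := Fintype.ofFinite (Subgroup.centralizer (P : Set G))
  have h1 : brauerOmega P β (ξ : Subgroup.centralizer (P : Set G) → ℂ) =
      omega (ξ : Subgroup.centralizer (P : Set G) → ℂ)
        (fun x : Subgroup.centralizer (P : Set G) => β (x : G)) := by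
    unfold brauerOmega
    rw [finsum_eq_sum_of_fintype, omega_def, lin_def, Finset.sum_div]
  have h2 : br P (toK M β) = toK M (fun x : Subgroup.centralizer (P : Set G) => β (x : G)) := by
    refine ext_coeff fun g => ?_
    rw [coeff_br, coeff_toK, coeff_toK]
  rw [h1, h2, lam_toK ξ.2 hcl (fun g => hβ _)]
  exact ⟨memLocalRing_omega ξ.2 hcl (fun g => hβ _), rfl⟩

theorem memLocalIdeal_brauerOmega_iff (P : Subgroup G) {β : G → ℂ}
    (hβ : ∀ g, MemLocalRing M (β g))
    (hcl : IsClassFunction (Subgroup.centralizer (P : Set G))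
      (fun x : Subgroup.centralizer (P : Set G) => β (x : G)))
    (ξ : IrrCharacter (Subgroup.centralizer (P : Set G))) :
    MemLocalIdeal M (brauerOmega P β (ξ : Subgroup.centralizer (P : Set G) → ℂ) - 1) ↔
      lam M (ξ : Subgroup.centralizer (P : Set G) → ℂ) (br P (toK M β)) = 1 := by
  obtain ⟨h1, h2⟩ := redC_brauerOmega P hβ hcl ξ
  rw [← redC_eq_iff h1 memLocalRing_one, h2, redC_one]

theorem subgroupBlockCoeff_of_mem {L : Subgroup G} (e : Set (IrrCharacter L)) {g : G}
    (hg : g ∈ L) : subgroupBlockCoeff L e g = blockCoeff e ⟨g, hg⟩ := by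
  unfold subgroupBlockCoeff
  rw [dif_pos hg]

theorem subgroupBlockCoeff_of_notMem {L : Subgroup G} (e : Set (IrrCharacter L)) {g : G}
    (hg : g ∉ L) : subgroupBlockCoeff L e g = 0 := by
  unfold subgroupBlockCoeff
  rw [dif_neg hg]

theorem toK_subgroupBlockCoeff (L : Subgroup G) (e : Set (IrrCharacter L)) :
    toK M (subgroupBlockCoeff L e) = emb L (idem M e) := by
  refine ext_coeff fun g => ?_
  rw [coeff_toK]
  by_cases hg : g ∈ L
  · rw [coeff_emb_of_mem _ hg, subgroupBlockCoeff_of_mem e hg, coeff_idem]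
  · rw [coeff_emb_of_notMem _ hg, subgroupBlockCoeff_of_notMem e hg, redC_zero]

theorem memLocalRing_subgroupBlockCoeff (hM : IsPModular p M) {L : Subgroup G}
    {e : Set (IrrCharacter L)} (he : IsUnion M e) (g : G) :
    MemLocalRing M (subgroupBlockCoeff L e g) := by
  by_cases hg : g ∈ L
  · rw [subgroupBlockCoeff_of_mem e hg]
    exact memLocalRing_blockCoeff hM he _
  · rw [subgroupBlockCoeff_of_notMem e hg]
    exact memLocalRing_zero

theorem toK_blockCoeff (B : Set (IrrCharacter G)) : toK M (blockCoeff B) = idem M B := rfl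

/-- `(Q, e)` is a Brauer pair of `B` iff the central character of `e` is one at the image of the
idempotent of `B` under the Brauer map. -/
theorem isBrauerPairOf_iff (hM : IsPModular p M) {B : Set (IrrCharacter G)} {Q : Subgroup G}
    {e : Set (IrrCharacter (Subgroup.centralizer (Q : Set G)))} :
    IsBrauerPairOf p M B Q e ↔ IsBrauerPair p M Q e ∧ IsPBlock M B ∧
      ∀ ξ ∈ e, lam M (ξ : Subgroup.centralizer (Q : Set G) → ℂ) (br Q (idem M B)) = 1 := by
  have := Fintype.ofFinite G
  unfold IsBrauerPairOf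
  refine and_congr_right fun _ => and_congr_right fun hB => forall_congr' fun ξ =>
    imp_congr_right fun _ => ?_
  rw [memLocalIdeal_brauerOmega_iff Q (memLocalRing_blockCoeff hM (isUnion_of_isPBlock hB))
    (fun g h => by
      have := isClassFunction_blockCoeff B (g : G) (h : G)
      simpa using this) ξ, toK_blockCoeff]

/-- Normal inclusion of Brauer pairs in terms of the group algebra over the residue field. -/
theorem isNormalSubpair_iff (hM : IsPModular p M) {Q P : Subgroup G}
    {f : Set (IrrCharacter (Subgroup.centralizer (Q : Set G)))}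
    {e : Set (IrrCharacter (Subgroup.centralizer (P : Set G)))} :
    IsNormalSubpair p M Q f P e ↔ IsBrauerPair p M Q f ∧ IsBrauerPair p M P e ∧ Q ≤ P ∧
      P ≤ Subgroup.normalizer (Q : Set G) ∧ IsInv P (emb _ (idem M f)) ∧
      ∀ ξ ∈ e, lam M (ξ : Subgroup.centralizer (P : Set G) → ℂ) (br P (emb _ (idem M f))) = 1 := by
  have := Fintype.ofFinite G
  have := Fintype.ofFinite (Subgroup.centralizer (Q : Set G))
  unfold IsNormalSubpair
  refine and_congr_right fun hf => and_congr_right fun _ => and_congr_right fun hQP =>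
    and_congr_right fun hPN => ?_
  rw [forall_stabilizesBlock_iff hM hPN hf.2]
  refine and_congr_right fun _ => forall_congr' fun ξ => imp_congr_right fun _ => ?_
  rw [memLocalIdeal_brauerOmega_iff P
    (memLocalRing_subgroupBlockCoeff hM (isUnion_of_isPBlock hf.2)) ?_ ξ, toK_subgroupBlockCoeff]
  intro g h
  have hg := centralizer_mono hQP g.2
  have hh := centralizer_mono hQP h.2
  have hgh : (h : G) * g * (h : G)⁻¹ ∈ Subgroup.centralizer (Q : Set G) :=
    Subgroup.mul_mem _ (Subgroup.mul_mem _ hh hg) (Subgroup.inv_mem _ hh)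
  push_cast
  rw [subgroupBlockCoeff_of_mem f hg, subgroupBlockCoeff_of_mem f hgh]
  exact isClassFunction_blockCoeff f ⟨g, hg⟩ ⟨h, hh⟩

/-- A block of `L` and the `lam` of its members. -/
theorem forall_lam_iff {L : Type*} [Group L] [Finite L] {e : Set (IrrCharacter L)}
    (he : IsPBlock M e) {ξ : IrrCharacter L} (hξ : ξ ∈ e) (x : MonoidAlgebra (ResField M) L)
    (c : ResField M) : (∀ ζ ∈ e, lam M (ζ : L → ℂ) x = c) ↔ lam M (ξ : L → ℂ) x = c :=
  ⟨fun h => h ξ hξ, fun h ζ hζ => by rw [lam_eq_of_mem he hζ hξ, h]⟩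

end Dictionary

end Cfsg.Agent.H644
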